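import Mathlib.FieldTheory.Finite.Basic
import Mathlib.Algebra.Ring.GeomSum

/-!
Owner: helper28. Mersenne prime powers and Fermat numbers.
-/

set_option autoImplicit false

namespace CfsgLib.Techniques.PPrimeNilp

/-- `p ^ e + 1 = 2 ^ b` forces `p + 1 = 2 ^ b`. -/
theorem exp_one {p e b : ℕ} (hp : p.Prime) (hp2 : p ≠ 2) (hb : 2 ≤ b) (h : p ^ e + 1 = 2 ^ b) :
    p + 1 = 2 ^ b := by
  have h4 : 4 ∣ 2 ^ b := by
    obtain ⟨c, rfl⟩ := Nat.exists_eq_add_of_le hb
    exact ⟨2 ^ c, by rw [pow_add]; norm_num⟩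
  have hodd : p % 2 = 1 := Nat.odd_iff.1 (hp.odd_of_ne_two hp2)
  rcases Nat.even_or_odd e with ⟨c, rfl⟩ | ⟨c, rfl⟩
  · exfalso
    have h1 : (p ^ (c + c)) % 4 = 1 := by
      rw [← two_mul, pow_mul, Nat.pow_mod, Nat.pow_mod p 2 4]
      rcases (show p % 4 = 1 ∨ p % 4 = 3 by omega) with e | e <;> rw [e] <;> simp
    omega
  · have hd : p + 1 ∣ p ^ (2 * c + 1) + 1 := by
      have := Odd.nat_add_dvd_pow_add_pow p 1 (n := 2 * c + 1) ⟨c, rfl⟩
      rwa [one_pow] at this
    obtain ⟨i, hib, hi⟩ := (Nat.dvd_prime_pow Nat.prime_two).1 (h ▸ hd)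
    rcases eq_or_lt_of_le hib with rfl | hlt
    · exact hi
    exfalso
    have hi1 : 1 ≤ i := by
      rcases Nat.eq_zero_or_pos i with rfl | h' <;> [skip; exact h']
      have := hp.two_le
      simp at hi
      omega
    have hpz : ((p : ℕ) : ZMod (2 ^ (i + 1))) = 2 ^ i - 1 := by
      rw [eq_sub_iff_add_eq]
      have := congrArg (fun m : ℕ => (m : ZMod (2 ^ (i + 1)))) hi
      simpa using this
    have h0 : (2 : ZMod (2 ^ (i + 1))) ^ (i + 1) = 0 := by
      have := ZMod.natCast_self (2 ^ (i + 1))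
      push_cast at this
      exact this
    have hsq : (p : ZMod (2 ^ (i + 1))) ^ 2 = 1 := by
      obtain ⟨j, rfl⟩ := Nat.exists_eq_add_of_le hi1
      rw [hpz]
      linear_combination ((2 : ZMod (2 ^ (1 + j + 1))) ^ j - 1) * h0
    have hz : (2 : ZMod (2 ^ (i + 1))) ^ b = 0 := by
      exact pow_eq_zero_of_le (show i + 1 ≤ b by omega) h0
    have h2 := congrArg (fun m : ℕ => (m : ZMod (2 ^ (i + 1)))) h
    simp only [Nat.cast_add, Nat.cast_pow, Nat.cast_one, Nat.cast_ofNat] at h2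
    rw [pow_succ (p : ZMod (2 ^ (i + 1))), pow_mul, hsq, one_pow, one_mul, hpz, sub_add_cancel, hz] at h2
    have h3 : ((2 ^ i : ℕ) : ZMod (2 ^ (i + 1))) = 0 := by push_cast; exact h2
    rw [ZMod.natCast_eq_zero_iff] at h3
    have := Nat.le_of_dvd (by positivity) h3
    exact absurd this (not_le.2 (Nat.pow_lt_pow_right (by norm_num) (by omega)))

/-- A Mersenne prime `p > 3` divides no `2 ^ a + 1`. -/
theorem not_dvd_fermat {p b a : ℕ} (hp : p.Prime) (hp3 : 3 < p) (hb : p + 1 = 2 ^ b) :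
    ¬ p ∣ 2 ^ a + 1 := by
  intro hd
  haveI := Fact.mk hp
  have hbo : Odd b := by
    rcases Nat.even_or_odd b with ⟨c, rfl⟩ | ho
    · exfalso
      have h3 : 3 ∣ p := by
        have := Nat.sub_dvd_pow_sub_pow 4 1 c
        rw [one_pow] at this
        have e : 4 ^ c - 1 = p := by
          rw [← two_mul, pow_mul] at hb
          norm_num at hb
          omega
        rwa [e] at this
      rcases (Nat.dvd_prime hp).1 h3 with e | e <;> omega
    · exact ho
  have h2b : (2 : ZMod p) ^ b = 1 := by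
    have := congrArg (fun m : ℕ => (m : ZMod p)) hb
    simpa using this.symm
  have h2a : (2 : ZMod p) ^ a = -1 := by
    rw [eq_neg_iff_add_eq_zero]
    have := (ZMod.natCast_eq_zero_iff _ _).2 hd
    simpa using this
  have h : ((-1 : ZMod p)) = 1 := by
    calc (-1 : ZMod p) = (-1) ^ b := (hbo.neg_one_pow).symm
      _ = ((2 : ZMod p) ^ a) ^ b := by rw [h2a]
      _ = ((2 : ZMod p) ^ b) ^ a := by rw [← pow_mul, ← pow_mul, mul_comm]
      _ = 1 := by rw [h2b, one_pow]
  haveI : Fact (2 < p) := ⟨by omega⟩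
  exact ZMod.neg_one_ne_one h

end CfsgLib.Techniques.PPrimeNilp
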