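import Cfsg.Prelude.Def_LocalEven
import Cfsg.Agent.Lib.Core.Basic
import Cfsg.Agent.Lib.Signalizer.Involutions
import Cfsg.Agent.Lib.SolvStruct.NilFactor
import Mathlib.GroupTheory.SchurZassenhaus

/-!
Owner: helper28. Groups in which every subgroup of order prime to `p` is nilpotent: elementary facts
and the section argument showing that they involve no `S₄` when `3 < p`.
-/

set_option autoImplicit false
set_option linter.all false

namespace CfsgLib.Techniques.PPrimeNilp

open Subgroup

universe u

variable {G : Type u} [Group G] {p : ℕ}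

/-- Every subgroup of order prime to `p` is nilpotent. -/
def Hyp (p : ℕ) (G : Type u) [Group G] : Prop :=
  ∀ H : Subgroup G, (Nat.card ↥H).Coprime p → Group.IsNilpotent ↥H

theorem Hyp.subgroup (h : Hyp p G) (L : Subgroup G) : Hyp p ↥L := by
  intro H hH
  haveI := h (H.map L.subtype) (by rwa [card_map_of_injective L.subtype_injective])
  exact Group.nilpotent_of_mulEquiv (H.equivMapOfInjective L.subtype L.subtype_injective).symm

theorem Hyp.commute [Finite G] (h : Hyp p G) {H : Subgroup G} (hH : (Nat.card H).Coprime p) {x y : G}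
    (hx : x ∈ H) (hy : y ∈ H) (hxy : (orderOf x).Coprime (orderOf y)) : x * y = y * x := by
  haveI := h H hH
  exact congrArg Subtype.val (CfsgLib.SolvStruct.commute_of_coprime_orderOf_of_isNilpotent
    (x := (⟨x, hx⟩ : H)) (y := ⟨y, hy⟩) (by rwa [← orderOf_coe, ← orderOf_coe])).eq

/-- A subgroup of order prime to `p` of a homomorphic image is covered by one of the group. -/
theorem exists_cover [Finite G] [Fact p.Prime] {Q : Type*} [Group Q] [Finite Q] (f : G →* Q)
    (hf : Function.Surjective f) (X : Subgroup Q) (hX : (Nat.card X).Coprime p) :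
    ∃ H : Subgroup G, H.map f = X ∧ (Nat.card H).Coprime p := by
  classical
  have hp : p.Prime := Fact.out
  haveI : Finite (Subgroup G) := inferInstance
  obtain ⟨H, hH, hmin⟩ := ((Set.toFinite {H : Subgroup G | H.map f = X}).exists_minimal
    ⟨X.comap f, map_comap_eq_self_of_surjective hf X⟩)
  have hH' : H.map f = X := hH
  have key : ∀ K : Subgroup G, K ≤ H → K.map f = X → K = H := fun K hK hKX =>
    le_antisymm hK (hmin hKX hK)
  refine ⟨H, hH', ?_⟩
  obtain ⟨P⟩ : Nonempty (Sylow p H) := inferInstance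
  -- the kernel in `H`
  let g : H →* X := (f.comp H.subtype).codRestrict X fun a => hH' ▸ mem_map_of_mem f a.2
  have hPk : (P : Subgroup H) ≤ g.ker := by
    intro a ha
    obtain ⟨k, hk⟩ := P.2 ⟨a, ha⟩
    have h1 : orderOf (g a) ∣ p ^ k := by
      refine orderOf_dvd_of_pow_eq_one ?_
      rw [← map_pow, show a ^ p ^ k = 1 from congrArg Subtype.val hk, map_one]
    exact orderOf_eq_one_iff.1 (Nat.eq_one_of_dvd_coprimes (Nat.Coprime.pow_right k hX)
      (orderOf_dvd_natCard (g a)) h1)
  -- Frattini
  have hN : (normalizer ((P : Subgroup H) : Set H)).map H.subtype = H := by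
    refine key _ (map_subtype_le _) (le_antisymm ((map_mono (map_subtype_le _)).trans hH'.le) fun x hx => ?_)
    obtain ⟨a, ha, rfl⟩ := hH'.ge hx
    have hfr := Sylow.normalizer_sup_eq_top' (N := g.ker) P hPk
    have ha' : (⟨a, ha⟩ : H) ∈ normalizer ((P : Subgroup H) : Set H) ⊔ g.ker := by
      exact hfr.ge (mem_top _)
    rw [mem_sup_of_normal_right] at ha'
    obtain ⟨b, hb, c, hc, e⟩ := ha'
    refine ⟨b, mem_map_of_mem _ hb, ?_⟩
    have hc1 : f (c : G) = 1 := congrArg Subtype.val (MonoidHom.mem_ker.1 hc)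
    rw [show a = (b : G) * (c : G) from (congrArg Subtype.val e).symm, map_mul, hc1, mul_one]
  haveI hPn : (P : Subgroup H).Normal := by
    rw [← normalizer_eq_top_iff]
    exact map_injective H.subtype_injective (by rw [hN, ← MonoidHom.range_eq_map, range_subtype])
  obtain ⟨C, hC⟩ := exists_right_complement'_of_coprime P.card_coprime_index
  have hCX : (C.map H.subtype).map f = X := by
    refine le_antisymm ((map_mono (map_subtype_le _)).trans hH'.le) fun x hx => ?_
    obtain ⟨a, ha, rfl⟩ := hH'.ge hx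
    obtain ⟨⟨⟨u, hu⟩, ⟨b, hb⟩⟩, hub⟩ := hC.surjective (⟨a, ha⟩ : H)
    refine ⟨b, mem_map_of_mem _ hb, ?_⟩
    have hu1 : f (u : G) = 1 := congrArg Subtype.val (MonoidHom.mem_ker.1 (hPk hu))
    rw [show a = (u : G) * (b : G) from (congrArg Subtype.val hub).symm, map_mul, hu1, one_mul]
  rw [← key _ (map_subtype_le _) hCX, card_map_of_injective H.subtype_injective, ← hC.symm.index_eq_card,
    Nat.coprime_comm, hp.coprime_iff_not_dvd]
  exact P.not_dvd_index

theorem Hyp.map [Finite G] [Fact p.Prime] {Q : Type u} [Group Q] [Finite Q] (h : Hyp p G) (f : G →* Q)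
    (hf : Function.Surjective f) : Hyp p Q := by
  intro X hX
  obtain ⟨H, rfl, hH⟩ := exists_cover f hf X hX
  haveI := h H hH
  exact Group.nilpotent_of_surjective (f.subgroupMap H) (f.subgroupMap_surjective H)

/-- No `S₄` is involved. -/
theorem Hyp.s4_free [Finite G] [Fact p.Prime] (h : Hyp p G) (hp3 : 3 < p) :
    ¬ Cfsg.Involves (Equiv.Perm (Fin 4)) G := by
  rintro ⟨K, R, hR, ⟨e⟩⟩
  have hp : p.Prime := Fact.out
  have hQ : Hyp p (Equiv.Perm (Fin 4)) → False := by
    intro hS
    have hc : (Nat.card (Equiv.Perm (Fin 4))).Coprime p := by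
      rw [Nat.card_perm, Nat.card_fin, Nat.coprime_comm, hp.coprime_iff_not_dvd]
      intro hd
      have := (hp.dvd_factorial).1 hd
      have : p = 4 := by omega
      subst this
      norm_num at hp
    have h1 := hS.commute (H := ⊤) (by rwa [card_top])
      (mem_top (Equiv.swap (0 : Fin 4) 1)) (mem_top (Equiv.swap (0 : Fin 4) 1 * Equiv.swap 1 2)) (by
        rw [orderOf_eq_prime (p := 2) (by decide) (by decide),
          orderOf_eq_prime (p := 3) (by decide) (by decide)]
        norm_num)
    revert h1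
    decide
  have h1 : Hyp p (↥K ⧸ R.subgroupOf K) := (h.subgroup K).map _ (QuotientGroup.mk'_surjective _)
  refine hQ fun X hX => ?_
  haveI := h1 (X.map e.symm.toMonoidHom) (by rwa [card_map_of_injective e.symm.injective])
  exact Group.nilpotent_of_mulEquiv (X.equivMapOfInjective e.symm.toMonoidHom e.symm.injective).symm

theorem isPGroup_of_orderOf [Finite G] [Fact p.Prime] {H : Subgroup G}
    (h : ∀ y ∈ H, (orderOf y).Coprime p → y = 1) : IsPGroup p H := by
  intro x
  refine ⟨(orderOf (x : G)).factorization p, Subtype.ext ?_⟩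
  have hp : p.Prime := Fact.out
  refine h _ (pow_mem x.2 _) ?_
  rw [SubgroupClass.coe_pow, orderOf_pow_of_dvd (pow_ne_zero _ hp.ne_zero) (Nat.ordProj_dvd _ p), Nat.coprime_comm,
    hp.coprime_iff_not_dvd]
  exact Nat.not_dvd_ordCompl hp (orderOf_pos _).ne'

/-- An element of order prime to `p` commutes with the elements of coprime order in a `p'`-subgroup it
normalises. -/
theorem Hyp.commute_of_normalizes [Finite G] (h : Hyp p G) {K : Subgroup G} (hK : (Nat.card K).Coprime p)
    {x : G} (hx : (orderOf x).Coprime p) (hn : x ∈ normalizer (K : Set G)) {k : G} (hk : k ∈ K)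
    (hxk : (orderOf x).Coprime (orderOf k)) : x * k = k * x := by
  have hle : zpowers x ≤ normalizer (K : Set G) := zpowers_le.2 hn
  exact h.commute (Nat.Coprime.coprime_dvd_left (CfsgLib.Core.card_sup_dvd _ _ hle)
    (Nat.Coprime.mul_left (by rwa [Nat.card_zpowers]) hK))
    (mem_sup_left (mem_zpowers x)) (mem_sup_right hk) hxk

/-- An element of odd order inverted by an involution is a `p`-element. -/
theorem Hyp.inverted_pow [Finite G] [Fact p.Prime] (h : Hyp p G) (hp2 : p ≠ 2) {w x : G}
    (hw : orderOf w = 2) (hwx : w * x * w⁻¹ = x⁻¹) (hx : Odd (orderOf x)) :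
    ∃ j : ℕ, x ^ p ^ j = 1 := by
  refine ⟨(orderOf x).factorization p, ?_⟩
  set y := x ^ p ^ (orderOf x).factorization p with hy
  have hp : p.Prime := Fact.out
  have hyp' : (orderOf y).Coprime p := by
    rw [hy, orderOf_pow_of_dvd (pow_ne_zero _ hp.ne_zero) (Nat.ordProj_dvd _ p), Nat.coprime_comm,
      hp.coprime_iff_not_dvd]
    exact Nat.not_dvd_ordCompl hp (orderOf_pos _).ne'
  have hodd : Odd (orderOf y) := hx.of_dvd_nat (orderOf_pow_dvd _)
  have hwy : w * y * w⁻¹ = y⁻¹ := by rw [hy, ← conj_pow, hwx, inv_pow]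
  have hn : w ∈ normalizer ((zpowers y : Subgroup G) : Set G) := by
    rw [mem_normalizer_iff_map_conj_eq, MonoidHom.map_zpowers]
    show zpowers (w * y * w⁻¹) = zpowers y
    rw [hwy, zpowers_inv]
  have hc := h.commute_of_normalizes (K := zpowers y) (by rwa [Nat.card_zpowers])
    (by rw [hw]; exact (Nat.coprime_primes Nat.prime_two hp).2 (Ne.symm hp2)) hn (mem_zpowers y)
    (by rw [hw]; exact Nat.coprime_two_left.2 hodd)
  rw [hc, mul_inv_cancel_right, eq_inv_iff_mul_eq_one, ← sq] at hwy
  rcases (Nat.dvd_prime Nat.prime_two).1 (orderOf_dvd_of_pow_eq_one hwy) with e | e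
  · exact orderOf_eq_one_iff.1 e
  · rw [e] at hodd; exact absurd hodd (by decide)

end CfsgLib.Techniques.PPrimeNilp
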