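import Cfsg.Agent.Lib.Techniques.PPrimeNilp.Basic
import Cfsg.Agent.Lib.Techniques.PPrimeNilp.Arith
import Cfsg.Agent.Lib.Bender.Gen.Final
import Cfsg.Agent.Lib.Bender.Gen.Structure
import Cfsg.Agent.Lib.Bender.Gen.Maximal
import Cfsg.Agent.Lib.LocalEven.Generation
import Cfsg.Agent.Lib.PLocal.PConstrained
import Cfsg.Agent.Lib.Core.SolvableStruct

/-!
Owner: helper28. A simple group with solvable proper subgroups in which every subgroup of order prime
to `p > 3` is nilpotent has no strongly embedded subgroup: counting the products of two involutions.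
-/

set_option autoImplicit false
set_option linter.all false
set_option maxHeartbeats 800000

namespace CfsgLib.Techniques.PPrimeNilp

open Subgroup MulAction
open CfsgLib.Signalizer (involution_sq involution_inv orderOf_eq_two_of involution_ne_one orderOf_conj)

universe u

variable {G : Type u} [Group G] [Finite G]

theorem mem_conj_iff {M : Subgroup G} {g x : G} :
    x ∈ M.map (MulAut.conj g).toMonoidHom ↔ g⁻¹ * x * g ∈ M := by
  constructor
  · rintro ⟨y, hy, rfl⟩
    simpa [mul_assoc] using hy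
  · intro h
    exact ⟨_, h, by simp [mul_assoc]⟩

/-- The two point stabiliser. -/
def pairStab (M : Subgroup G) (g : G) : Subgroup G := M ⊓ M.map (MulAut.conj g).toMonoidHom

theorem mem_pairStab {M : Subgroup G} {g x : G} : x ∈ pairStab M g ↔ x ∈ M ∧ g⁻¹ * x * g ∈ M :=
  and_congr_right fun _ => mem_conj_iff

/-- In a proper solvable subgroup containing a four group of `M`, the two `O_{2',2}` lies in `M`; hence the
subgroup contains no involution outside `M`. -/
theorem false_of_four_and_outside [IsSimpleGroup G] {M X : Subgroup G} (hM : Cfsg.IsStronglyEmbedded M)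
    (hX : Group.IsSolvable X) {s t z : G} (hs : s ∈ M) (ht : t ∈ M) (hs2 : orderOf s = 2) (ht2 : orderOf t = 2)
    (hne : s ≠ t) (hc : s * t = t * s) (hsX : s ∈ X) (htX : t ∈ X) (hzX : z ∈ X) (hzM : z ∉ M) : False := by
  haveI : Fact (Nat.Prime 2) := ⟨Nat.prime_two⟩
  haveI := hX
  obtain ⟨-, -, h3⟩ := (CfsgLib.Signalizer.stronglyEmbedded_iff_conj M).1 hM
  haveI : (Cfsg.oddCore ↥X).Normal := CfsgLib.Core.normal_pPrimeCore 2 X
  have hOM : (Cfsg.oddCore ↥X).map X.subtype ≤ M := by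
    have hn := le_normalizer_map (H := Cfsg.oddCore ↥X) X.subtype
    rw [normalizer_eq_top, ← MonoidHom.range_eq_map, range_subtype] at hn
    refine CfsgLib.Bender.le_of_four_centralizers (R := (Cfsg.oddCore ↥X).map X.subtype) ?_ hs2 ht2 hc hne
      (hn hsX) (hn htX) fun x _ a ha hxa => ?_
    · rw [card_map_of_injective X.subtype_injective]
      exact CfsgLib.ZStar.odd_card_oddCore _
    rcases ha with rfl | rfl | rfl
    · exact CfsgLib.Bender.mem_of_commute_involution hM hs2 hs hxa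
    · exact CfsgLib.Bender.mem_of_commute_involution hM ht2 ht hxa
    · refine CfsgLib.Bender.mem_of_commute_involution hM (orderOf_eq_two_of (fun h => hne ?_) ?_) (mul_mem hs ht) hxa
      · rw [← involution_inv hs2]; exact (eq_inv_of_mul_eq_one_right h).symm
      · rw [mul_assoc, ← mul_assoc t s, ← hc, mul_assoc, involution_sq ht2, mul_one, involution_sq hs2]
  -- a Sylow subgroup through `s`
  have hs' : orderOf (⟨s, hsX⟩ : X) = 2 := by rw [← orderOf_coe]; exact hs2
  obtain ⟨R, hR⟩ := (CfsgLib.Signalizer.isPGroup_zpowers_involution hs').exists_le_sylow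
  have hRM : (R : Subgroup X).map X.subtype ≤ M := by
    have hR2 : IsPGroup 2 ((R : Subgroup X).map X.subtype) := R.2.map _
    have hsR : s ∈ (R : Subgroup X).map X.subtype := ⟨⟨s, hsX⟩, hR (mem_zpowers _), rfl⟩
    set R' := (R : Subgroup X).map X.subtype with hR'
    have hne' : R' ⊓ centralizer (R' : Set G) ≠ ⊥ := by
      haveI : Nontrivial R' := ⟨⟨⟨s, hsR⟩, 1, fun e => involution_ne_one hs2 (congrArg Subtype.val e)⟩⟩
      haveI := hR2.center_nontrivial
      obtain ⟨⟨⟨c, hcR⟩, hcc⟩, hc1⟩ := exists_ne (1 : center R')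
      intro hbot
      refine hc1 (Subtype.ext (Subtype.ext (mem_bot.1 (hbot ▸ mem_inf.2 ⟨hcR, mem_centralizer_iff.2 fun r hr => ?_⟩))))
      exact congrArg Subtype.val (mem_center_iff.1 hcc ⟨r, hr⟩)
    obtain ⟨c, ⟨hcR, hcC⟩, hc2⟩ :=
      CfsgLib.Signalizer.exists_involution_of_two_group (hR2.to_le inf_le_left) hne'
    have hcM : c ∈ M := CfsgLib.Bender.mem_of_commute_involution hM hs2 hs (mem_centralizer_iff.1 hcC s hsR).symm
    exact fun r hr => CfsgLib.Bender.mem_of_commute_involution hM hc2 hcM (mem_centralizer_iff.1 hcC r hr)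
  -- `O_{2',2}`
  set π := QuotientGroup.mk' (Cfsg.oddCore ↥X) with hπ
  have hcon := CfsgLib.PLocal.isPConstrained_iff.1 (CfsgLib.PLocal.isPConstrained_of_isPSolvable
    (CfsgLib.Core.isPSolvable_of_isSolvable (p := 2) (G := X) hX))
  set Y := (Cfsg.pCore 2 (↥X ⧸ Cfsg.oddCore ↥X)).comap π with hY
  haveI : Y.Normal := (CfsgLib.Core.normal_pCore 2 _).comap π
  have hYM : ∀ y ∈ Y, (y : G) ∈ M := by
    intro y hy
    obtain ⟨r, hr, e⟩ := CfsgLib.Core.pCore_le_sylow (R.mapSurjective (QuotientGroup.mk'_surjective _)) hy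
    have ho : y * r⁻¹ ∈ Cfsg.oddCore ↥X := by
      rw [← QuotientGroup.eq_one_iff]
      show π (y * r⁻¹) = 1
      rw [map_mul, map_inv, e, mul_inv_cancel]
    have := mul_mem (hOM (mem_map_of_mem X.subtype ho)) (hRM (mem_map_of_mem X.subtype hr))
    simpa using this
  have hne2 : (R : Subgroup X) ⊓ Y ≠ ⊥ := by
    intro hbot
    have hcore : Cfsg.pCore 2 (↥X ⧸ Cfsg.oddCore ↥X) = ⊥ := by
      rw [eq_bot_iff]
      intro q hq
      obtain ⟨r, hr, rfl⟩ := CfsgLib.Core.pCore_le_sylow (R.mapSurjective (QuotientGroup.mk'_surjective _)) hq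
      have : r ∈ (R : Subgroup X) ⊓ Y := ⟨hr, hq⟩
      rw [hbot, mem_bot] at this
      rw [this]; exact map_one _
    have htop : ∀ q : ↥X ⧸ Cfsg.oddCore ↥X, q = 1 := fun q => by
      have h1 : q ∈ centralizer (Cfsg.pCore 2 (↥X ⧸ Cfsg.oddCore ↥X) : Set (↥X ⧸ Cfsg.oddCore ↥X)) := by
        rw [hcore]; exact mem_centralizer_iff.2 fun v hv => by
          rw [SetLike.mem_coe, mem_bot] at hv; simp [hv]
      have h2 := hcon h1
      rwa [hcore, mem_bot] at h2
    have hsO : (⟨s, hsX⟩ : X) ∈ Cfsg.oddCore ↥X := (QuotientGroup.eq_one_iff _).1 (htop _)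
    have := (CfsgLib.ZStar.odd_card_oddCore X).of_dvd_nat ((Cfsg.oddCore ↥X).orderOf_dvd_natCard hsO)
    rw [hs'] at this
    exact absurd this (by decide)
  obtain ⟨j, ⟨-, hjY⟩, hj2⟩ := CfsgLib.Signalizer.exists_involution_of_two_group (R.2.to_le inf_le_left) hne2
  have hjG : orderOf (j : G) = 2 := by rw [orderOf_coe, hj2]
  refine hzM (h3 _ (hYM j hjY) hjG z ?_)
  exact hYM _ (Subgroup.Normal.conj_mem ‹Y.Normal› j hjY ⟨z, hzX⟩)

variable {p : ℕ} [Fact p.Prime]

/-- A minimal simple group satisfying the hypothesis has no strongly embedded subgroup. -/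
theorem false_of_stronglyEmbedded [IsSimpleGroup G] (hna : ¬ IsMulCommutative G) (h : Hyp p G) (hp3 : 3 < p)
    (hsol : ∀ X : Subgroup G, X ≠ ⊤ → Group.IsSolvable X) {M : Subgroup G}
    (hM : Cfsg.IsStronglyEmbedded M) : False := by
  haveI : Fact (Nat.Prime 2) := ⟨Nat.prime_two⟩
  have hp : p.Prime := Fact.out
  have hp2 : p ≠ 2 := by omega
  obtain ⟨hMne, hMeven, h3⟩ := (CfsgLib.Signalizer.stronglyEmbedded_iff_conj M).1 hM
  obtain ⟨U, hUM, hUn, hU2, hUc, htr, -, hfour⟩ :=
    CfsgLib.Bender.simple_regular CfsgLib.Bender.benderGen hM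
  have hcore : M.normalCore = ⊥ :=
    (IsSimpleGroup.eq_bot_or_eq_top_of_normal _ inferInstance).resolve_right
      fun e => hMne (top_le_iff.1 (e ▸ M.normalCore_le))
  have hindex := CfsgLib.Bender.card_index CfsgLib.Bender.benderGen hM hfour hcore
  obtain ⟨g₀, hg₀⟩ : ∃ g : G, g ∉ M := by
    by_contra hno
    push Not at hno
    exact hMne (eq_top_iff.2 fun g _ => hno g)
  have h2p : (2 : ℕ).Coprime p := (Nat.coprime_primes Nat.prime_two hp).2 (Ne.symm hp2)
  have hUp : (Nat.card U).Coprime p := by rw [hUc]; exact h2p.pow_left _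
  -- the two point stabilisers are `p`-groups
  have hHp : ∀ g : G, g ∉ M → IsPGroup p (pairStab M g) := by
    intro g hg
    refine isPGroup_of_orderOf fun y hy hyp => ?_
    have hodd : Odd (orderOf y) := (hM.2.2 g hg).of_dvd_nat ((pairStab M g).orderOf_dvd_natCard hy)
    obtain ⟨hyM, hyg⟩ := mem_pairStab.1 hy
    have hcU : ∀ u ∈ U, y * u = u * y := fun u hu => by
      refine h.commute_of_normalizes hUp hyp (hUn hyM) hu ?_
      obtain ⟨i, hi⟩ := hU2 ⟨u, hu⟩
      have hdvd : orderOf u ∣ 2 ^ i := orderOf_dvd_of_pow_eq_one (congrArg Subtype.val hi)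
      exact Nat.Coprime.coprime_dvd_right hdvd ((Nat.coprime_two_right.2 hodd).pow_right i)
    have : y ∈ M.normalCore := by
      intro b
      by_cases hb : b ∈ M
      · exact mul_mem (mul_mem hb hyM) (inv_mem hb)
      · obtain ⟨u, hu, he⟩ := htr g b⁻¹ hg (fun hb' => hb (by simpa using inv_mem hb'))
        set m := b⁻¹⁻¹ * (u * g) with hm
        have e : b * y * b⁻¹ = m * (g⁻¹ * y * g) * m⁻¹ := by
          have h1 : y = u * y * u⁻¹ := by rw [← hcU u hu, mul_inv_cancel_right]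
          conv_lhs => rw [h1]
          rw [hm]; group
        rw [e]
        exact mul_mem (mul_mem he hyg) (inv_mem he)
    rwa [hcore, mem_bot] at this
  have hMUH : ∀ g : G, g ∉ M → ∀ m ∈ M, ∃ u ∈ U, u * m ∈ pairStab M g := by
    intro g hg m hm
    obtain ⟨u, hu, he⟩ := htr (m * g) g (fun e => hg ((mul_mem_cancel_left hm).1 e)) hg
    refine ⟨u, hu, mem_pairStab.2 ⟨mul_mem (hUM hu) hm, ?_⟩⟩
    simpa [mul_assoc] using he
  -- the involutions of `M`
  have hIU : ∀ x ∈ M, orderOf x = 2 → x ∈ U := by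
    intro x hx hx2
    have hle : zpowers x ≤ normalizer (U : Set G) := zpowers_le.2 (hUn hx)
    have hd := CfsgLib.Core.card_sup_dvd (zpowers x) U hle
    rw [Nat.card_zpowers, hx2, hUc, ← pow_succ'] at hd
    obtain ⟨i, -, hi⟩ := (Nat.dvd_prime_pow Nat.prime_two).1 hd
    have hle' : i ≤ (Nat.card G).factorization 2 :=
      (Nat.Prime.pow_dvd_iff_le_factorization Nat.prime_two Nat.card_pos.ne').1 (hi ▸ card_subgroup_dvd_card _)
    have heq : U = zpowers x ⊔ U := eq_of_le_of_card_ge le_sup_right (by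
      rw [hi, hUc]; exact Nat.pow_le_pow_right (by norm_num) hle')
    rw [heq]; exact mem_sup_left (mem_zpowers x)
  set I : Set G := {x | x ∈ M ∧ orderOf x = 2} with hI
  have hconj : ∀ a ∈ I, ∀ b ∈ I, ∃ m ∈ M, m * a * m⁻¹ = b := by
    rintro a ⟨haM, ha⟩ b ⟨hbM, hb⟩
    obtain ⟨g, hg⟩ := isConj_iff.1 (CfsgLib.TwoGroups.SE.isConj_involutions hM ha hb)
    exact ⟨g, h3 a haM ha g (hg ▸ hbM), hg⟩
  obtain ⟨s, hsM, t, htM, hs2, ht2, hst, hstc⟩ := hfour
  have hsI : s ∈ I := ⟨hsM, hs2⟩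
  have hcent : ∀ a ∈ I, ∀ u ∈ U, a * u = u * a := by
    have hne' : U ⊓ centralizer (U : Set G) ≠ ⊥ := by
      haveI : Nontrivial U := ⟨⟨⟨s, hIU s hsM hs2⟩, 1, fun e => involution_ne_one hs2 (congrArg Subtype.val e)⟩⟩
      haveI := hU2.center_nontrivial
      obtain ⟨⟨⟨c, hcR⟩, hcc⟩, hc1⟩ := exists_ne (1 : center U)
      intro hbot
      refine hc1 (Subtype.ext (Subtype.ext (mem_bot.1 (hbot ▸ mem_inf.2 ⟨hcR, mem_centralizer_iff.2 fun r hr => ?_⟩))))
      exact congrArg Subtype.val (mem_center_iff.1 hcc ⟨r, hr⟩)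
    obtain ⟨c, ⟨hcU, hcC⟩, hc2⟩ :=
      CfsgLib.Signalizer.exists_involution_of_two_group (hU2.to_le inf_le_left) hne'
    intro a ha u hu
    obtain ⟨m, hm, rfl⟩ := hconj c ⟨hUM hcU, hc2⟩ a ha
    have h1 := mem_centralizer_iff.1 hcC _ ((mem_normalizer_iff''.1 (hUn hm) u).1 hu)
    calc m * c * m⁻¹ * u = m * (c * (m⁻¹ * u * m)) * m⁻¹ := by group
      _ = m * (m⁻¹ * u * m * c) * m⁻¹ := by rw [h1]
      _ = _ := by group
  -- the number of involutions of `M` is `p`
  let Z : Subgroup G :=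
    { carrier := {x | x ∈ U ∧ (∀ u ∈ U, x * u = u * x) ∧ x * x = 1}
      one_mem' := ⟨one_mem U, fun u _ => by simp, one_mul 1⟩
      mul_mem' := fun {a b} ha hb => ⟨mul_mem ha.1 hb.1,
        fun u hu => by rw [mul_assoc, hb.2.1 u hu, ← mul_assoc, ha.2.1 u hu, mul_assoc],
        by rw [mul_assoc, ← mul_assoc b a, hb.2.1 a ha.1, mul_assoc, hb.2.2, mul_one, ha.2.2]⟩
      inv_mem' := fun {a} ha => by rw [inv_eq_of_mul_eq_one_right ha.2.2]; exact ha }
  have hZI : (Z : Set G) = insert 1 I := by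
    ext x
    constructor
    · rintro ⟨hxU, -, hx2⟩
      by_cases hx : x = 1
      · exact Or.inl hx
      · exact Or.inr ⟨hUM hxU, orderOf_eq_two_of hx hx2⟩
    · rintro (rfl | hx)
      · exact one_mem Z
      · exact ⟨hIU x hx.1 hx.2, hcent x hx, involution_sq hx.2⟩
  obtain ⟨k, hk⟩ : ∃ k, k = Nat.card I := ⟨_, rfl⟩
  have h1I : (1 : G) ∉ I := fun e => involution_ne_one e.2 rfl
  have hZc : Nat.card Z = k + 1 := by
    show Nat.card (Z : Set G) = k + 1
    rw [hZI, Nat.card_coe_set_eq, Set.ncard_insert_of_notMem h1I, hk, Nat.card_coe_set_eq]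
  obtain ⟨b, hb⟩ := (hU2.to_le (fun x hx => hx.1 : Z ≤ U)).exists_card_eq
  have hk2 : 2 ≤ k := by
    rw [hk, Nat.card_coe_set_eq, ← Set.ncard_pair hst]
    exact Set.ncard_le_ncard (Set.insert_subset hsI (Set.singleton_subset_iff.2 ⟨htM, ht2⟩))
  have hb2 : 2 ≤ b := by
    by_contra hlt
    have := Nat.pow_le_pow_right (show 0 < 2 by norm_num) (show b ≤ 1 by omega)
    omega
  -- the action on `I`
  let act : MulAction (pairStab M g₀) I :=
    { smul := fun x a => ⟨(x : G) * a * (x : G)⁻¹,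
        mul_mem (mul_mem (mem_pairStab.1 x.2).1 a.2.1) (inv_mem (mem_pairStab.1 x.2).1),
        by rw [orderOf_conj]; exact a.2.2⟩
      one_smul := fun a => Subtype.ext (by show ((1 : pairStab M g₀) : G) * a * _ = _; simp)
      mul_smul := fun x y a => Subtype.ext (by
        show ((x : G) * y) * (a : G) * ((x : G) * y)⁻¹ = (x : G) * ((y : G) * a * (y : G)⁻¹) * (x : G)⁻¹
        group) }
  letI := act
  haveI : IsPretransitive (pairStab M g₀) I := ⟨fun a c => by
    obtain ⟨m, hm, he⟩ := hconj a a.2 c c.2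
    obtain ⟨u, hu, hum⟩ := hMUH g₀ hg₀ m hm
    refine ⟨⟨u * m, hum⟩, Subtype.ext ?_⟩
    show u * m * (a : G) * (u * m)⁻¹ = c
    calc u * m * (a : G) * (u * m)⁻¹ = u * (m * a * m⁻¹) * u⁻¹ := by group
      _ = u * (c : G) * u⁻¹ := by rw [he]
      _ = _ := by rw [← hcent c c.2 u hu, mul_inv_cancel_right]⟩
  have hstabI : ∀ a : I, (stabilizer (pairStab M g₀) a).index = k := fun a => by
    rw [index_stabilizer_of_transitive, hk]
  obtain ⟨i, hi⟩ := (hHp g₀ hg₀).exists_card_eq
  obtain ⟨e, -, he⟩ := (Nat.dvd_prime_pow hp).1 (hi ▸ hstabI ⟨s, hsI⟩ ▸ index_dvd_card _)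
  have hpk : p = k := by
    have h1 := exp_one hp hp2 hb2 (show p ^ e + 1 = 2 ^ b by rw [← he, ← hZc, hb])
    omega
  have hpb : p + 1 = 2 ^ b := by rw [hpk, ← hZc, hb]
  -- the stabilisers act trivially
  have hker : ∀ d ∈ pairStab M g₀, d * s = s * d → ∀ a ∈ I, d * a = a * d := by
    intro d hd hds a ha
    set D := stabilizer (pairStab M g₀) (⟨s, hsI⟩ : I) with hD
    haveI : D.Normal := by
      refine normal_of_index_eq_minFac_card ?_
      rw [hstabI, ← hpk, hi, hp.pow_minFac]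
      intro hi0
      rw [hi0, pow_zero] at hi
      have := hstabI ⟨s, hsI⟩ ▸ index_dvd_card (stabilizer (pairStab M g₀) (⟨s, hsI⟩ : I))
      rw [hi, Nat.dvd_one] at this
      omega
    have hdD : (⟨d, hd⟩ : pairStab M g₀) ∈ D :=
      mem_stabilizer_iff.2 (Subtype.ext (show d * s * d⁻¹ = s by rw [hds, mul_inv_cancel_right]))
    obtain ⟨x, hx⟩ := MulAction.exists_smul_eq (pairStab M g₀) (⟨s, hsI⟩ : I) (⟨a, ha⟩ : I)
    have h1 : x⁻¹ * ⟨d, hd⟩ * x ∈ D := by simpa using Subgroup.Normal.conj_mem ‹D.Normal› _ hdD x⁻¹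
    have h2 : (⟨d, hd⟩ : pairStab M g₀) • (⟨a, ha⟩ : I) = ⟨a, ha⟩ := by
      conv_lhs => rw [← hx, ← mul_smul, show (⟨d, hd⟩ : pairStab M g₀) * x = x * (x⁻¹ * ⟨d, hd⟩ * x) by group,
        mul_smul, mem_stabilizer_iff.1 h1, hx]
    have h3' : d * a * d⁻¹ = a := congrArg Subtype.val h2
    exact mul_inv_eq_iff_eq_mul.1 h3'
  -- the same at every pair
  have hker' : ∀ g : G, g ∉ M → ∀ d ∈ pairStab M g, d * s = s * d → ∀ a ∈ I, d * a = a * d := by
    intro g hg d hd hds a ha
    obtain ⟨u, hu, he⟩ := htr g g₀ hg hg₀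
    have hd' : u * d * u⁻¹ ∈ pairStab M g₀ := by
      obtain ⟨hd1, hd2⟩ := mem_pairStab.1 hd
      refine mem_pairStab.2 ⟨mul_mem (mul_mem (hUM hu) hd1) (inv_mem (hUM hu)), ?_⟩
      have := mul_mem (mul_mem he hd2) (inv_mem he)
      simpa [mul_assoc] using this
    have hsu := hcent s hsI u hu
    have hau := hcent a ha u hu
    have h1 := hker _ hd' (by
      calc u * d * u⁻¹ * s = u * d * (u⁻¹ * s * u) * u⁻¹ := by group
        _ = u * (d * s) * u⁻¹ := by rw [mul_assoc u⁻¹ s u, hsu, inv_mul_cancel_left]; group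
        _ = u * (s * d) * u⁻¹ := by rw [hds]
        _ = _ := by rw [← mul_assoc u s d, ← hsu]; group) a ha
    refine mul_left_cancel (a := u) (mul_right_cancel (b := u⁻¹) ?_)
    calc u * (d * a) * u⁻¹ = u * d * u⁻¹ * (u * a) * u⁻¹ := by group
      _ = u * d * u⁻¹ * a := by rw [← hau]; group
      _ = a * (u * d * u⁻¹) := h1
      _ = _ := by rw [← mul_assoc, ← mul_assoc, hau]; group
  -- nothing centralises the involutions at two points
  have hX : ∀ g : G, g ∉ M → ∀ d : G, (∀ a ∈ I, d * a = a * d) →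
      (∀ a ∈ I, d * (g * a * g⁻¹) = g * a * g⁻¹ * d) → d = 1 := by
    intro g hg d hd1 hd2
    by_contra hne
    have hXt : centralizer ({d} : Set G) ≠ ⊤ := by
      intro hC
      have hdc : d ∈ center G := mem_center_iff.2 fun x => mem_centralizer_singleton_iff.1 (hC ▸ mem_top x)
      rcases IsSimpleGroup.eq_bot_or_eq_top_of_normal (center G) inferInstance with e | e
      · rw [e, mem_bot] at hdc; exact hne hdc
      · exact hna ⟨⟨fun a c => mem_center_iff.1 (e ▸ mem_top c) a⟩⟩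
    refine false_of_four_and_outside hM (hsol _ hXt) hsM htM hs2 ht2 hst hstc
      (mem_centralizer_singleton_iff.2 (hd1 s hsI).symm)
      (mem_centralizer_singleton_iff.2 (hd1 t ⟨htM, ht2⟩).symm)
      (z := g * s * g⁻¹) (mem_centralizer_singleton_iff.2 (hd2 s hsI).symm) ?_
    exact fun hin => hg (h3 s hsM hs2 g hin)
  -- the count
  set T : Set G := {x | orderOf x = 2 ∧ x ∉ M} with hT
  let Γ := {γ : G ⧸ M // γ ≠ ((1 : G) : G ⧸ M)}
  have hout : ∀ γ : Γ, (γ.1.out : G) ∉ M := fun γ hin => γ.2 (by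
    rw [← QuotientGroup.out_eq' γ.1, QuotientGroup.eq]
    simpa using inv_mem hin)
  have hlow : Nat.card Γ * k ≤ Nat.card T := by
    rw [hk, ← Nat.card_prod]
    refine Nat.card_le_card_of_injective
      (fun q => ⟨q.1.1.out * q.2 * q.1.1.out⁻¹, (orderOf_conj _ _).trans q.2.2.2,
        fun hin => hout q.1 (h3 _ q.2.2.1 q.2.2.2 _ hin)⟩) ?_
    rintro ⟨γ, a⟩ ⟨γ', a'⟩ heq
    have heq' : γ.1.out * (a : G) * γ.1.out⁻¹ = γ'.1.out * (a' : G) * γ'.1.out⁻¹ := congrArg Subtype.val heq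
    have h1 : γ'.1.out⁻¹ * γ.1.out ∈ M := h3 a a.2.1 a.2.2 _ (by
      have e : γ'.1.out⁻¹ * γ.1.out * (a : G) * (γ'.1.out⁻¹ * γ.1.out)⁻¹ = a' := by
        calc _ = γ'.1.out⁻¹ * (γ.1.out * (a : G) * γ.1.out⁻¹) * γ'.1.out := by group
          _ = _ := by rw [heq']; group
      rw [e]; exact a'.2.1)
    have hγ : γ = γ' := Subtype.ext (by
      rw [← QuotientGroup.out_eq' γ.1, ← QuotientGroup.out_eq' γ'.1, eq_comm, QuotientGroup.eq]
      exact h1)
    subst hγ
    exact Prod.ext rfl (Subtype.ext (mul_left_cancel (mul_right_cancel heq')))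
  have hxodd : ∀ x ∈ T, Odd (orderOf (s * x)) := by
    rintro x ⟨hx2, hxM⟩
    rw [← Nat.not_even_iff_odd]
    intro hev
    obtain ⟨hj2, hjs, hjx⟩ := CfsgLib.Signalizer.central_involution hs2 hx2 hev
    exact hxM (CfsgLib.Bender.mem_of_commute_involution hM hj2
      (CfsgLib.Bender.mem_of_commute_involution hM hs2 hsM hjs.eq) hjx.eq.symm)
  have hn : ¬ p ∣ Nat.card (G ⧸ M) := by
    rw [← Subgroup.index_eq_card, hindex]
    exact not_dvd_fermat hp hp3 hpb
  have hfix : ∀ x : T, ∃ γ : Γ, γ.1.out⁻¹ * (s * x) * γ.1.out ∈ M := by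
    rintro ⟨x, hx2, hxM⟩
    obtain ⟨j, hj⟩ := h.inverted_pow hp2 hs2 (x := s * x) (by
      rw [mul_inv_rev, involution_inv hx2, involution_inv hs2]
      simp [← mul_assoc, involution_sq hs2]) (hxodd x ⟨hx2, hxM⟩)
    have hz : IsPGroup p (zpowers (s * x)) := by
      obtain ⟨c, -, hc⟩ := (Nat.dvd_prime_pow hp).1 (orderOf_dvd_of_pow_eq_one hj)
      exact IsPGroup.of_card (n := c) (by rw [Nat.card_zpowers, hc])
    obtain ⟨γ, hγ⟩ := hz.nonempty_fixed_point_of_prime_not_dvd_card (G ⧸ M) hn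
    have hγ' : (s * x) • γ = γ := hγ ⟨s * x, mem_zpowers _⟩
    have hmem : γ.out⁻¹ * (s * x) * γ.out ∈ M := by
      rw [← QuotientGroup.out_eq' γ, MulAction.Quotient.smul_mk, smul_eq_mul, eq_comm, QuotientGroup.eq] at hγ'
      simpa [mul_assoc] using hγ'
    refine ⟨⟨γ, fun h1 => hxM ?_⟩, hmem⟩
    have ho : γ.out ∈ M := by
      have h2 : ((γ.out : G) : G ⧸ M) = ((1 : G) : G ⧸ M) := by rw [QuotientGroup.out_eq', h1]
      rw [QuotientGroup.eq] at h2
      simpa using h2
    have := mul_mem (mul_mem ho hmem) (inv_mem ho)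
    rw [show γ.out * (γ.out⁻¹ * (s * x) * γ.out) * γ.out⁻¹ = s * x by group] at this
    exact (mul_mem_cancel_left hsM).1 this
  choose γ hγ using hfix
  let w : T → G := fun x => (γ x).1.out⁻¹ * (s * x) * (γ x).1.out
  have hwM : ∀ x, w x ∈ M := hγ
  -- the swapping involution
  have hsw : ∀ x : T, (γ x).1.out⁻¹ * s * (γ x).1.out ∉ M ∧
      w x ∈ pairStab M ((γ x).1.out⁻¹ * s * (γ x).1.out) := by
    intro x
    set c := (γ x).1.out with hc
    have hg : c⁻¹ * s * c ∉ M := fun hin => hout (γ x) (by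
      have := inv_mem (h3 s hsM hs2 c⁻¹ (by simpa using hin))
      simpa using this)
    refine ⟨hg, mem_pairStab.2 ⟨hwM x, ?_⟩⟩
    have e : (c⁻¹ * s * c)⁻¹ * w x * (c⁻¹ * s * c) = (w x)⁻¹ := by
      show _ * (c⁻¹ * (s * (x : G)) * c) * _ = (c⁻¹ * (s * (x : G)) * c)⁻¹
      simp only [mul_inv_rev, inv_inv, involution_inv hs2, involution_inv x.2.1, mul_assoc,
        mul_inv_cancel_left, inv_mul_cancel_left]
      rw [← mul_assoc s s, involution_sq hs2, one_mul]
    rw [e]
    exact inv_mem (hwM x)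
  have hwinj : ∀ x y : T, γ x = γ y → w x * s * (w x)⁻¹ = w y * s * (w y)⁻¹ → x = y := by
    intro x y hxy hw
    obtain ⟨hg, hwx⟩ := hsw x
    obtain ⟨-, hwy⟩ := hsw y
    rw [← hxy] at hwy
    set c := (γ x).1.out with hc
    set g := c⁻¹ * s * c with hgdef
    set d := (w y)⁻¹ * w x with hd
    have hdH : d ∈ pairStab M g := mul_mem (inv_mem hwy) hwx
    have hds : d * s = s * d := by
      rw [← mul_inv_eq_iff_eq_mul, hd]
      calc (w y)⁻¹ * w x * s * ((w y)⁻¹ * w x)⁻¹ = (w y)⁻¹ * (w x * s * (w x)⁻¹) * w y := by group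
        _ = _ := by rw [hw]; group
    have hda := hker' g hg d hdH hds
    have hginv : g⁻¹ = g := by rw [hgdef]; simp [involution_inv hs2, mul_assoc]
    have hgw : ∀ z : T, γ z = γ x → g * w z * g = (w z)⁻¹ := by
      intro z hz
      have hwz : w z = c⁻¹ * (s * (z : G)) * c := by simp only [w, hz, ← hc]
      rw [hwz, hgdef]
      simp only [mul_inv_rev, inv_inv, involution_inv hs2, involution_inv z.2.1, mul_assoc,
        mul_inv_cancel_left, inv_mul_cancel_left]
      rw [← mul_assoc s s, involution_sq hs2, one_mul]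
    have hgd : g * d * g = w x * d⁻¹ * (w x)⁻¹ := by
      have hgg : g * g = 1 := by nth_rw 1 [← hginv]; exact inv_mul_cancel g
      calc g * d * g = g * (w y)⁻¹ * (g * g) * w x * g := by rw [hgg, hd]; group
        _ = (g * (w y)⁻¹ * g) * (g * w x * g) := by group
        _ = (g * w y * g)⁻¹ * (g * w x * g) := by
          rw [show (g * w y * g)⁻¹ = g⁻¹ * (w y)⁻¹ * g⁻¹ by group, hginv]
        _ = w y * (w x)⁻¹ := by rw [hgw x rfl, hgw y hxy.symm, inv_inv]
        _ = _ := by rw [hd]; group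
    have hd1 : d = 1 := by
      refine hX g hg d hda fun a ha => ?_
      have h1 : d⁻¹ * ((w x)⁻¹ * a * w x) = (w x)⁻¹ * a * w x * d⁻¹ := by
        have hmem : (w x)⁻¹ * a * w x ∈ I :=
          ⟨mul_mem (mul_mem (inv_mem (hwM x)) ha.1) (hwM x), by
            have := orderOf_conj (w x)⁻¹ a
            rw [inv_inv] at this
            rw [this]; exact ha.2⟩
        exact (show Commute d _ from hda _ hmem).inv_left.eq
      have h2 : g * d * g * a = a * (g * d * g) := by
        rw [hgd]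
        calc w x * d⁻¹ * (w x)⁻¹ * a = w x * (d⁻¹ * ((w x)⁻¹ * a * w x)) * (w x)⁻¹ := by group
          _ = w x * ((w x)⁻¹ * a * w x * d⁻¹) * (w x)⁻¹ := by rw [h1]
          _ = _ := by group
      rw [hginv]
      have hgg : g * g = 1 := by nth_rw 1 [← hginv]; exact inv_mul_cancel g
      calc d * (g * a * g) = g * g * d * (g * a * g) := by rw [hgg, one_mul]
        _ = g * (g * d * g * a) * g := by group
        _ = g * (a * (g * d * g)) * g := by rw [h2]
        _ = g * a * g * d * (g * g) := by group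
        _ = _ := by rw [hgg, mul_one]
    rw [hd, inv_mul_eq_one] at hd1
    have hwd : c⁻¹ * (s * (y : G)) * c = c⁻¹ * (s * (x : G)) * c := by
      have e1 : w y = c⁻¹ * (s * (y : G)) * c := by simp only [w, ← hxy, ← hc]
      rw [← e1, hd1]
    exact Subtype.ext (mul_left_cancel (mul_left_cancel (mul_right_cancel hwd)).symm)
  have hne : ∀ x : T, w x * s * (w x)⁻¹ ≠ s := by
    intro x hx
    obtain ⟨hg, hwx⟩ := hsw x
    have hda := hker' _ hg (w x) hwx (mul_inv_eq_iff_eq_mul.1 hx)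
    set c := (γ x).1.out with hc
    set g := c⁻¹ * s * c with hgdef
    have hginv : g⁻¹ = g := by rw [hgdef]; simp [involution_inv hs2, mul_assoc]
    have hgw : g * w x * g = (w x)⁻¹ := by
      show g * (c⁻¹ * (s * (x : G)) * c) * g = (c⁻¹ * (s * (x : G)) * c)⁻¹
      rw [hgdef]
      simp only [mul_inv_rev, inv_inv, involution_inv hs2, involution_inv x.2.1, mul_assoc,
        mul_inv_cancel_left, inv_mul_cancel_left]
      rw [← mul_assoc s s, involution_sq hs2, one_mul]
    have h1 : w x = 1 := by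
      refine hX g hg _ hda fun a ha => ?_
      have h2 : (w x)⁻¹ * a = a * (w x)⁻¹ := (show Commute (w x) a from hda a ha).inv_left.eq
      rw [← hgw] at h2
      rw [hginv]
      have hgg : g * g = 1 := by nth_rw 1 [← hginv]; exact inv_mul_cancel g
      calc w x * (g * a * g) = g * g * w x * (g * a * g) := by rw [hgg, one_mul]
        _ = g * (g * w x * g * a) * g := by group
        _ = g * (a * (g * w x * g)) * g := by rw [h2]
        _ = g * a * g * w x * (g * g) := by group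
        _ = _ := by rw [hgg, mul_one]
    have h4 : s * (x : G) = 1 := by
      have : c⁻¹ * (s * (x : G)) * c = 1 := h1
      rwa [mul_assoc, inv_mul_eq_one, eq_comm, mul_eq_right] at this
    exact x.2.2 (by rw [eq_inv_of_mul_eq_one_right h4]; exact inv_mem hsM)
  have hup : Nat.card T ≤ Nat.card Γ * (k - 1) := by
    have hk1 : k - 1 = Nat.card ↥(I \ {s}) := by
      rw [hk, Nat.card_coe_set_eq, Nat.card_coe_set_eq, Set.ncard_diff_singleton_of_mem hsI]
    rw [hk1, ← Nat.card_prod]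
    refine Nat.card_le_card_of_injective (fun x => (γ x, ⟨w x * s * (w x)⁻¹,
      ⟨mul_mem (mul_mem (hwM x) hsM) (inv_mem (hwM x)), (orderOf_conj _ _).trans hs2⟩, hne x⟩)) ?_
    intro x y hxy
    exact hwinj x y (congrArg Prod.fst hxy) (congrArg (fun q => (q.2 : G)) hxy)
  have hΓ : 0 < Nat.card Γ := by
    refine Nat.card_pos_iff.2 ⟨⟨⟨((g₀ : G) : G ⧸ M), fun e => hg₀ ?_⟩⟩, inferInstance⟩
    rw [QuotientGroup.eq] at e
    simpa using e
  have := Nat.mul_lt_mul_of_pos_left (show k - 1 < k by omega) hΓ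
  omega

end CfsgLib.Techniques.PPrimeNilp
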