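import Cfsg.Agent.Lib.Techniques.PPrimeNilp.Setup
import Cfsg.Agent.Lib.Signalizer.CoresGenerate
import Cfsg.Agent.S0205
import Cfsg.Agent.S1250

/-!
Owner: helper28. The strongly embedded subgroup: either the normaliser of the subgroup generated by the
cores of the involution centralisers, or a maximal 2-local subgroup.
-/

set_option autoImplicit false
set_option linter.all false
set_option maxHeartbeats 400000

namespace CfsgLib.Techniques.PPrimeNilp

open Subgroup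
open CfsgLib.Classical.TwoType (oC oC_le map_oC_le)

universe u

/-- A strongly closed abelian 2-subgroup of a group with `C(O₂) ≤ O₂` lies in `O₂`. -/
theorem stronglyClosed_le_pCore {Y : Type u} [Group Y] [Finite Y]
    (hc : centralizer (Cfsg.pCore 2 Y : Set Y) ≤ Cfsg.pCore 2 Y) (R : Sylow 2 Y) {B : Subgroup Y}
    (hBR : B ≤ (R : Subgroup Y)) (hab : ∀ a ∈ B, ∀ b ∈ B, a * b = b * a)
    (hcl : ∀ g : Y, ∀ x ∈ B, g * x * g⁻¹ ∈ (R : Subgroup Y) → g * x * g⁻¹ ∈ B) :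
    B ≤ Cfsg.pCore 2 Y := by
  haveI : Fact (Nat.Prime 2) := ⟨Nat.prime_two⟩
  haveI := CfsgLib.Core.normal_pCore 2 Y
  set Q := Cfsg.pCore 2 Y with hQ
  have hQR : Q ≤ (R : Subgroup Y) := CfsgLib.Core.pCore_le_sylow R
  haveI hB0 : (B ⊓ Q).Normal := ⟨fun x hx g => by
    have h1 : g * x * g⁻¹ ∈ Q := Subgroup.Normal.conj_mem inferInstance x hx.2 g
    exact ⟨hcl g x hx.1 (hQR h1), h1⟩⟩
  set f := QuotientGroup.mk' (B ⊓ Q) with hf
  haveI : (Q.map f).Normal := Subgroup.Normal.map inferInstance f (QuotientGroup.mk'_surjective _)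
  set K := centralizer ((B ⊓ Q : Subgroup Y) : Set Y) ⊓ (centralizer ((Q.map f : Subgroup _) : Set _)).comap f
    with hK
  haveI hKn : K.Normal := by
    rw [hK]; infer_instance
  have hK2 : IsPGroup 2 K := by
    refine isPGroup_of_orderOf fun y hy hyo => ?_
    have hyQ : y ∈ centralizer (Q : Set Y) := by
      refine mem_centralizer_iff.2 fun q hq => ?_
      obtain ⟨hy1, hy2⟩ := hy
      have hb : q⁻¹ * (y * q * y⁻¹) ∈ B ⊓ Q := by
        rw [← QuotientGroup.eq_one_iff]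
        show f (q⁻¹ * (y * q * y⁻¹)) = 1
        have h := mem_centralizer_iff.1 hy2 (f q) (mem_map_of_mem f hq)
        rw [map_mul, map_mul, map_mul, map_inv, map_inv, ← h, mul_inv_cancel_right, inv_mul_cancel]
      set c := q⁻¹ * (y * q * y⁻¹) with hc'
      have hyc : y * c = c * y := (mem_centralizer_iff.1 hy1 c hb).symm
      have hpow : ∀ n : ℕ, y ^ n * q * (y ^ n)⁻¹ = q * c ^ n := by
        intro n
        induction n with
        | zero => simp
        | succ n ih =>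
          calc y ^ (n + 1) * q * (y ^ (n + 1))⁻¹ = y * (y ^ n * q * (y ^ n)⁻¹) * y⁻¹ := by rw [pow_succ']; group
            _ = y * (q * c ^ n) * y⁻¹ := by rw [ih]
            _ = (y * q * y⁻¹) * (y * c ^ n * y⁻¹) := by group
            _ = q * c * c ^ n := by
              rw [(Commute.pow_right hyc n).eq, mul_inv_cancel_right, hc', mul_inv_cancel_left]
            _ = _ := by rw [pow_succ', mul_assoc]
      have h1 := hpow (orderOf y)
      rw [pow_orderOf_eq_one, one_mul, inv_one, mul_one] at h1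
      have hcy : c ^ orderOf y = 1 := mul_eq_left.1 h1.symm
      obtain ⟨i, hi⟩ := (CfsgLib.Core.isPGroup_pCore 2 Y) ⟨c, hb.2⟩
      have hc1 : orderOf c = 1 := Nat.eq_one_of_dvd_coprimes (hyo.pow_right i) (orderOf_dvd_of_pow_eq_one hcy)
        (orderOf_dvd_of_pow_eq_one (congrArg Subtype.val hi))
      rw [orderOf_eq_one_iff, hc', inv_mul_eq_one] at hc1
      exact mul_inv_eq_iff_eq_mul.1 hc1.symm |>.symm
    obtain ⟨i, hi⟩ := (CfsgLib.Core.isPGroup_pCore 2 Y) ⟨y, hc hyQ⟩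
    exact orderOf_eq_one_iff.1 (Nat.eq_one_of_dvd_coprimes (hyo.pow_right i) dvd_rfl
      (orderOf_dvd_of_pow_eq_one (congrArg Subtype.val hi)))
  intro b hb
  refine CfsgLib.Core.le_pCore hK2 (mem_inf.2 ⟨mem_centralizer_iff.2 fun x hx => hab x hx.1 b hb, ?_⟩)
  refine mem_centralizer_iff.2 ?_
  rintro _ ⟨q, hq, rfl⟩
  rw [← map_mul, ← map_mul, hf, QuotientGroup.mk'_eq_mk']
  refine ⟨b⁻¹ * (q⁻¹ * b * q), mem_inf.2 ⟨mul_mem (inv_mem hb) ?_, ?_⟩, by group⟩
  · have h1 : q⁻¹ * b * q⁻¹⁻¹ ∈ (R : Subgroup Y) :=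
      mul_mem (mul_mem (inv_mem (hQR hq)) (hBR hb)) (by simpa using hQR hq)
    simpa using hcl q⁻¹ b hb h1
  · have h1 : b⁻¹ * q⁻¹ * b ∈ Q := by
      simpa using Subgroup.Normal.conj_mem ‹Q.Normal› q⁻¹ (inv_mem hq) b⁻¹
    simpa [mul_assoc] using mul_mem h1 hq

variable {G : Type u} [Group G] [Finite G] {p : ℕ} [Fact p.Prime] {S : Sylow 2 G} {A : Subgroup G}

/-- A four group inside gives 2-rank at least two. -/
theorem not_rankLE_one {B V : Subgroup G} (hV : Cfsg.IsElementaryAbelian 2 V) (hVB : V ≤ B)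
    (h4 : 4 ≤ Nat.card V) : ¬ Cfsg.PRankLE 2 1 ↥B := by
  intro h
  haveI := hV.1
  have h1 := h (V.subgroupOf B)
    ⟨⟨fun a b => by
      have := congrArg Subtype.val (hV.1.is_comm.comm (⟨((a : ↥B) : G), a.2⟩ : V) ⟨((b : ↥B) : G), b.2⟩)
      exact Subtype.ext (Subtype.ext this)⟩⟩
    (fun a ha => Subtype.ext (hV.2 _ ha))
  rw [Nat.card_congr (subgroupOfEquivOfLe hVB).toEquiv] at h1
  omega

/-- `C_S(t)` is a Sylow 2-subgroup of `C(t)`. -/
def Ext (S : Sylow 2 G) (t : G) : Prop :=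
  t ∈ (S : Subgroup G) ∧
    Nat.card ↥((S : Subgroup G) ⊓ centralizer ({t} : Set G)) =
      2 ^ (Nat.card ↥(centralizer ({t} : Set G))).factorization 2

theorem exists_ext (S : Sylow 2 G) {u : G} (hu : orderOf u = 2) {R : Subgroup G} (hR : IsPGroup 2 R)
    (hRu : R ≤ centralizer ({u} : Set G)) :
    ∃ g : G, Ext S (g * u * g⁻¹) ∧ ∀ x ∈ R, g * x * g⁻¹ ∈ (S : Subgroup G) := by
  haveI : Fact (Nat.Prime 2) := ⟨Nat.prime_two⟩
  set C := centralizer ({u} : Set G) with hC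
  have hu' : u ∈ C := mem_centralizer_singleton_iff.2 rfl
  have hRu2 : IsPGroup 2 ↥(R ⊔ zpowers u : Subgroup G) := by
    refine hR.to_sup_of_normal_left' (CfsgLib.Signalizer.isPGroup_zpowers_involution hu) (zpowers_le.2 ?_)
    exact centralizer_le_normalizer _ (mem_centralizer_iff.2 fun r hr => mem_centralizer_singleton_iff.1 (hRu hr))
  obtain ⟨P, hP⟩ := (hRu2.comap_subtype (K := C)).exists_le_sylow
  obtain ⟨T, hT⟩ := (P.2.map C.subtype).exists_le_sylow
  obtain ⟨g, hg⟩ := MulAction.exists_smul_eq G T S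
  have hconj : ∀ x ∈ (P : Subgroup C).map C.subtype, g * x * g⁻¹ ∈ (S : Subgroup G) := by
    intro x hx
    rw [← hg, Sylow.coe_subgroup_smul]
    exact ⟨x, hT hx, rfl⟩
  have hRP : ∀ x ∈ R ⊔ zpowers u, g * x * g⁻¹ ∈ (S : Subgroup G) := by
    intro x hx
    have hxC : x ∈ C := sup_le hRu (zpowers_le.2 hu') hx
    exact hconj x ⟨⟨x, hxC⟩, hP hx, rfl⟩
  refine ⟨g, ⟨hRP u (mem_sup_right (mem_zpowers u)), ?_⟩, fun x hx => hRP x (mem_sup_left hx)⟩
  have hcardC : Nat.card ↥(centralizer ({g * u * g⁻¹} : Set G)) = Nat.card C := by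
    have e : centralizer ({g * u * g⁻¹} : Set G) = C.map (MulAut.conj g).toMonoidHom := by
      ext x
      rw [CfsgLib.Classical.TwoType.conj_centralizer, CfsgLib.Transfer.mem_map_conj]
    rw [e, CfsgLib.Transfer.card_map_conj]
  rw [hcardC, ← P.card_eq_multiplicity]
  apply le_antisymm
  · obtain ⟨i, hi⟩ := (S.2.to_le (inf_le_left : (S : Subgroup G) ⊓ centralizer ({g * u * g⁻¹} : Set G) ≤ _)).exists_card_eq
    rw [hi, P.card_eq_multiplicity]
    refine Nat.pow_le_pow_right (by norm_num)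
      ((Nat.Prime.pow_dvd_iff_le_factorization Nat.prime_two Nat.card_pos.ne').1 ?_)
    rw [← hi, ← hcardC]
    exact card_dvd_of_le inf_le_right
  · rw [← Subgroup.card_map_of_injective (K := (P : Subgroup C)) C.subtype_injective,
      ← CfsgLib.Transfer.card_map_conj g]
    refine card_le_of_le ?_
    rintro _ ⟨x, hx, rfl⟩
    refine ⟨hconj x hx, CfsgLib.Classical.TwoType.conj_centralizer.2 ?_⟩
    simpa [mul_assoc] using map_subtype_le _ hx

theorem exists_conj_into {M : Subgroup G} (hSM : (S : Subgroup G) ≤ M) {t : G} (ht : t ∈ M)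
    (ht2 : orderOf t = 2) : ∃ m ∈ M, m * t * m⁻¹ ∈ (S : Subgroup G) := by
  haveI : Fact (Nat.Prime 2) := ⟨Nat.prime_two⟩
  obtain ⟨R, hR⟩ := (IsPGroup.of_card (p := 2) (G := zpowers (⟨t, ht⟩ : M)) (n := 1)
    (by rw [Nat.card_zpowers, Subgroup.orderOf_mk, ht2, pow_one])).exists_le_sylow
  obtain ⟨m, hm⟩ := MulAction.exists_smul_eq M R (S.subtype hSM)
  refine ⟨m, m.2, ?_⟩
  have h1 : m * ⟨t, ht⟩ * m⁻¹ ∈ ((S.subtype hSM : Sylow 2 M) : Subgroup M) := by
    rw [← hm, Sylow.coe_subgroup_smul]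
    exact ⟨_, hR (mem_zpowers _), rfl⟩
  rw [Sylow.coe_subtype] at h1
  exact h1

variable (H : Min p G)
include H

omit [Fact p.Prime] H in
theorem Closed.exists_fixed (hA : Closed S A) {t : G} (htS : t ∈ (S : Subgroup G)) (ht : orderOf t = 2) :
    4 ≤ Nat.card ↥(A ⊓ centralizer ({t} : Set G)) ∧ ∃ b ∈ A, b ≠ 1 ∧ b * t = t * b := by
  have h := CfsgLib.Signalizer.CoresGen.four_le_card_fixed hA.elem hA.card
    (CfsgLib.Signalizer.involution_sq ht) (hA.norm htS)
  refine ⟨by simpa using h, ?_⟩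
  by_contra hno
  push Not at hno
  have : Nat.card ↥(A ⊓ centralizer ({t} : Set G)) = 1 := card_eq_one.2 ((eq_bot_iff_forall _).2 fun b hb => by
    by_contra hb1
    exact hno b hb.1 hb1 (mem_centralizer_singleton_iff.1 hb.2))
  have h' : 4 ≤ Nat.card ↥(A ⊓ centralizer ({t} : Set G)) := by simpa using h
  omega

theorem Min.constrained {b : G} (hb : orderOf b = 2) : Cfsg.IsPConstrained 2 ↥(centralizer ({b} : Set G)) := by
  haveI := H.simple.1
  haveI : Fact (Nat.Prime 2) := ⟨Nat.prime_two⟩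
  exact CfsgLib.PLocal.isPConstrained_of_isPSolvable (CfsgLib.Core.isPSolvable_of_isSolvable (p := 2)
    (H.solvable (centralizer_ne_top H.simple.2.1 (CfsgLib.Signalizer.involution_ne_one hb))))

/-- The centraliser of an extremal involution is its core times a normaliser of a 2-subgroup of `S` of rank two. -/
theorem Min.centralizer_le (hA : Closed S A) {W : Subgroup G}
    (hW : ∀ B : Subgroup G, B ≤ (S : Subgroup G) → ¬ Cfsg.PRankLE 2 1 ↥B →
      W = (⨆ b : {b : G // b ∈ B ∧ b ≠ 1}, oC (b : G)) ∧ normalizer (B : Set G) ≤ normalizer (W : Set G))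
    {t : G} (ht : orderOf t = 2) (hext : Ext S t) :
    centralizer ({t} : Set G) ≤ normalizer (W : Set G) := by
  haveI : Fact (Nat.Prime 2) := ⟨Nat.prime_two⟩
  obtain ⟨htS, hcard⟩ := hext
  set X := centralizer ({t} : Set G) with hX
  have hcon := CfsgLib.PLocal.isPConstrained_iff.1 (H.constrained ht)
  set R := ((S : Subgroup G) ⊓ X).subgroupOf X with hRdef
  obtain ⟨P, hP⟩ : ∃ P : Sylow 2 X, (P : Subgroup X) = R := by
    refine ⟨Sylow.ofCard R ?_, Sylow.coe_ofCard _ _⟩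
    rw [hRdef, Nat.card_congr (subgroupOfEquivOfLe inf_le_right).toEquiv, hcard]
  set π := QuotientGroup.mk' (Cfsg.oddCore ↥X) with hπ
  have hBP : A.subgroupOf X ≤ (P : Subgroup X) := fun a ha => hP ▸ mem_subgroupOf.2 ⟨hA.le ha, a.2⟩
  have hsc : Cfsg.IsStronglyClosed (A.subgroupOf X) (P : Subgroup X) := ⟨hBP, fun x hx g hg => by
    rw [hP] at hg
    exact hA.closed g x hx (mem_subgroupOf.1 hg).1⟩
  haveI : (Cfsg.oddCore ↥X).Normal := CfsgLib.Core.normal_pPrimeCore 2 X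
  have hscb := Cfsg.Agent.S1250.result P (A.subgroupOf X) hsc (Cfsg.oddCore ↥X)
  set Pb := P.mapSurjective (QuotientGroup.mk'_surjective (Cfsg.oddCore ↥X)) with hPb
  have hBQ : (A.subgroupOf X).map π ≤ Cfsg.pCore 2 (↥X ⧸ Cfsg.oddCore ↥X) := by
    refine stronglyClosed_le_pCore hcon Pb (map_mono hBP) ?_ fun g x hx hg => hscb.2 x hx g hg
    rintro _ ⟨a, ha, rfl⟩ _ ⟨b, hb, rfl⟩
    rw [← map_mul, ← map_mul]
    have hab := congrArg Subtype.val (hA.elem.1.is_comm.comm (⟨(a : G), ha⟩ : A) ⟨(b : G), hb⟩)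
    exact congrArg π (Subtype.ext hab)
  set Q := (P : Subgroup X) ⊓ (Cfsg.pCore 2 (↥X ⧸ Cfsg.oddCore ↥X)).comap π with hQ
  have hQmap : Q.map π = Cfsg.pCore 2 (↥X ⧸ Cfsg.oddCore ↥X) := by
    refine le_antisymm ((map_mono inf_le_right).trans (map_comap_le _ _)) fun q hq => ?_
    obtain ⟨r, hr, rfl⟩ := CfsgLib.Core.pCore_le_sylow Pb hq
    exact ⟨r, ⟨hr, hq⟩, rfl⟩
  have hQS : Q.map X.subtype ≤ (S : Subgroup G) := by
    rintro _ ⟨q, hq, rfl⟩
    have := hq.1
    rw [hP] at this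
    exact (mem_subgroupOf.1 this).1
  have hrank : ¬ Cfsg.PRankLE 2 1 ↥(Q.map X.subtype) := by
    refine not_rankLE_one (CfsgLib.Signalizer.elementary_of_le hA.elem inf_le_left) ?_ (hA.exists_fixed htS ht).1
    intro a ha
    exact ⟨⟨a, ha.2⟩, ⟨hBP ha.1, hBQ (mem_map_of_mem π ha.1)⟩, rfl⟩
  obtain ⟨-, hN⟩ := hW _ hQS hrank
  have hO : (Cfsg.oddCore ↥X).map X.subtype ≤ normalizer (W : Set G) := by
    have h8 : ¬ Cfsg.PRankLE 2 1 ↥(S : Subgroup G) := not_rankLE_one hA.elem hA.le (by have := hA.card; omega)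
    obtain ⟨hWS, -⟩ := hW _ le_rfl h8
    refine le_trans ?_ le_normalizer
    rw [hWS]
    exact le_iSup (fun b : {b : G // b ∈ (S : Subgroup G) ∧ b ≠ 1} => oC (b : G))
      ⟨t, htS, CfsgLib.Signalizer.involution_ne_one ht⟩
  have hfr := CfsgLib.PLocal.map_normalizer_eq (Cfsg.oddCore ↥X)
    (CfsgLib.Core.coprime_card_pPrimeCore 2 ↥X) (P.2.to_le (inf_le_left : Q ≤ (P : Subgroup X)))
  rw [← hπ, hQmap] at hfr
  haveI := CfsgLib.Core.normal_pCore 2 (↥X ⧸ Cfsg.oddCore ↥X)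
  rw [normalizer_eq_top (H := Cfsg.pCore 2 (↥X ⧸ Cfsg.oddCore ↥X))] at hfr
  intro x hx
  obtain ⟨n, hn, he⟩ := hfr.ge (mem_top (π ⟨x, hx⟩))
  have ho : (⟨x, hx⟩ : X) * n⁻¹ ∈ Cfsg.oddCore ↥X := by
    rw [← QuotientGroup.eq_one_iff]
    show π ((⟨x, hx⟩ : X) * n⁻¹) = 1
    rw [map_mul, map_inv, he, mul_inv_cancel]
  have := mul_mem (hO (mem_map_of_mem X.subtype ho)) (hN (le_normalizer_map X.subtype (mem_map_of_mem _ hn)))
  simpa using this

/-- All 2-local subgroups have characteristic 2 when all the cores of involution centralisers are trivial. -/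
theorem Min.charTwo (hcores : ∀ t : G, orderOf t = 2 → oC t = ⊥) {M : Subgroup G} (hM : Cfsg.IsTwoLocal M) :
    Group.IsSolvable M ∧ Cfsg.IsOfCharacteristicTwo ↥M ∧ ¬ Cfsg.Involves (Equiv.Perm (Fin 4)) ↥M := by
  haveI := H.simple.1
  haveI : Fact (Nat.Prime 2) := ⟨Nat.prime_two⟩
  obtain ⟨T, hT2, hTne, rfl⟩ := hM
  set M := normalizer (T : Set G) with hM
  have hMtop : M ≠ ⊤ := by
    intro e
    haveI : T.Normal := normalizer_eq_top_iff.1 e
    rcases IsSimpleGroup.eq_bot_or_eq_top_of_normal T inferInstance with e' | e'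
    · exact hTne e'
    · subst e'
      exact not_twoGroup H.simple.2.1 (hT2.of_equiv Subgroup.topEquiv)
  haveI hMs := H.solvable hMtop
  refine ⟨hMs, CfsgLib.Core.centralizer_pCore_le_of_pPrimeCore_eq_bot ?_, (H.hyp.subgroup M).s4_free H.three⟩
  -- the core centralises `T` and lies in the centraliser of an involution of `Z(T)`
  have hne : T ⊓ centralizer (T : Set G) ≠ ⊥ := by
    haveI : Nontrivial T := (nontrivial_iff_ne_bot _).2 hTne
    haveI := hT2.center_nontrivial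
    obtain ⟨⟨⟨c, hcR⟩, hcc⟩, hc1⟩ := exists_ne (1 : center T)
    intro hbot
    refine hc1 (Subtype.ext (Subtype.ext (mem_bot.1 (hbot ▸ mem_inf.2 ⟨hcR, mem_centralizer_iff.2 fun r hr => ?_⟩))))
    exact congrArg Subtype.val (mem_center_iff.1 hcc ⟨r, hr⟩)
  obtain ⟨t, ⟨htT, htC⟩, ht2⟩ := CfsgLib.Signalizer.exists_involution_of_two_group (hT2.to_le inf_le_left) hne
  set X := centralizer ({t} : Set G) with hX
  have hTX : T ≤ X := fun a ha => mem_centralizer_singleton_iff.2 (mem_centralizer_iff.1 htC a ha)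
  have hX0 : Cfsg.pPrimeCore 2 ↥X = ⊥ := (map_eq_bot_iff_of_injective _ X.subtype_injective).1 (hcores t ht2)
  haveI : Group.IsSolvable X := H.solvable (centralizer_ne_top H.simple.2.1 (CfsgLib.Signalizer.involution_ne_one ht2))
  obtain ⟨h0, -⟩ := CfsgLib.PLocal.centralizer_pCore_le_local (p := 2) (G := X)
    (CfsgLib.Core.centralizer_pCore_le_of_pPrimeCore_eq_bot hX0) (P := T.subgroupOf X) (hT2.comap_subtype)
    (X := centralizer ((T.subgroupOf X : Subgroup X) : Set X)) le_rfl (centralizer_le_normalizer _) (Or.inr le_rfl)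
  haveI : (Cfsg.pPrimeCore 2 ↥M).Normal := CfsgLib.Core.normal_pPrimeCore 2 M
  have hcoD := CfsgLib.Core.coprime_card_pPrimeCore 2 ↥M
  have hcomm : ∀ d ∈ Cfsg.pPrimeCore 2 ↥M, ∀ a ∈ T, (d : G) * a = a * d := by
    intro d hd a ha
    have haM : a ∈ M := le_normalizer ha
    have h1 : d * ⟨a, haM⟩ * d⁻¹ * (⟨a, haM⟩ : M)⁻¹ ∈ Cfsg.pPrimeCore 2 ↥M := by
      have := mul_mem hd (Subgroup.Normal.conj_mem ‹(Cfsg.pPrimeCore 2 ↥M).Normal› d⁻¹ (inv_mem hd) ⟨a, haM⟩)
      simpa [mul_assoc] using this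
    have h2 : (d : G) * a * (d : G)⁻¹ * a⁻¹ ∈ T := mul_mem ((mem_normalizer_iff.1 d.2 a).1 ha) (inv_mem ha)
    obtain ⟨k, hk⟩ := hT2.exists_card_eq
    have h3 : orderOf ((d : G) * a * (d : G)⁻¹ * a⁻¹) = 1 := by
      refine Nat.eq_one_of_dvd_coprimes (hcoD.pow_right k) ?_ (hk ▸ T.orderOf_dvd_natCard h2)
      have := (Cfsg.pPrimeCore 2 ↥M).orderOf_dvd_natCard h1
      rwa [← orderOf_coe] at this
    rw [orderOf_eq_one_iff, mul_inv_eq_one, mul_inv_eq_iff_eq_mul] at h3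
    exact h3
  rw [eq_bot_iff]
  intro d hd
  have hdX : (d : G) ∈ X := mem_centralizer_singleton_iff.2 (hcomm d hd t htT)
  set X0 := centralizer ((T.subgroupOf X : Subgroup X) : Set X) with hX0def
  have hle : ∀ x : X0, ((x : X) : G) ∈ M := fun x => by
    refine centralizer_le_normalizer _ ?_
    exact mem_centralizer_iff.2 fun a ha => congrArg Subtype.val (mem_centralizer_iff.1 x.2 ⟨a, hTX ha⟩ ha)
  let f : X0 →* M := (X.subtype.comp X0.subtype).codRestrict M hle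
  have hd0 : (⟨d, hdX⟩ : X) ∈ X0 := mem_centralizer_iff.2 fun a ha => Subtype.ext (hcomm d hd a ha).symm
  have hfi : Function.Injective f := fun a b e => Subtype.ext (Subtype.ext (congrArg (Subtype.val : M → G) e))
  have hD0 : (⟨⟨d, hdX⟩, hd0⟩ : X0) ∈ Cfsg.pPrimeCore 2 ↥X0 := by
    haveI : ((Cfsg.pPrimeCore 2 ↥M).comap f).Normal := Subgroup.Normal.comap inferInstance f
    refine CfsgLib.Core.le_pPrimeCore (hcoD.coprime_dvd_left ?_) (x := (⟨⟨d, hdX⟩, hd0⟩ : X0)) (show _ ∈ (Cfsg.pPrimeCore 2 ↥M).comap f from hd)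
    rw [← card_map_of_injective hfi]
    exact card_dvd_of_le (map_comap_le f _)
  rw [h0, mem_bot] at hD0
  exact mem_bot.2 (Subtype.ext (congrArg (fun z : X0 => ((z : X) : G)) hD0))

/-- There is a strongly embedded subgroup. -/
theorem Min.exists_stronglyEmbedded : ∃ M : Subgroup G, Cfsg.IsStronglyEmbedded M := by
  haveI := H.simple.1
  haveI : Fact (Nat.Prime 2) := ⟨Nat.prime_two⟩
  obtain ⟨S, A, hA⟩ := H.exists_closed
  obtain ⟨W, hWodd, hW⟩ := CfsgLib.Signalizer.CoresGen.cores_generate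
    (fun X hX => Cfsg.Agent.S0205.result hX) (fun b hb => H.constrained hb) S hA.elem hA.card hA.le hA.norm
  have h8 : ¬ Cfsg.PRankLE 2 1 ↥(S : Subgroup G) := not_rankLE_one hA.elem hA.le (by have := hA.card; omega)
  obtain ⟨hWS, hNS⟩ := hW _ le_rfl h8
  by_cases hWbot : W = ⊥
  · have hcores : ∀ t : G, orderOf t = 2 → oC t = ⊥ := by
      intro t ht
      obtain ⟨T, hT⟩ := (CfsgLib.Signalizer.isPGroup_zpowers_involution ht).exists_le_sylow
      obtain ⟨g, hg⟩ := MulAction.exists_smul_eq G T S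
      have hgt : g * t * g⁻¹ ∈ (S : Subgroup G) := by
        rw [← hg, Sylow.coe_subgroup_smul]
        exact ⟨t, hT (mem_zpowers t), rfl⟩
      refine (map_eq_bot_iff_of_injective _ (MulAut.conj g).injective).1 (le_bot_iff.1 ((map_oC_le g t).trans ?_))
      rw [← hWbot, hWS]
      exact le_iSup (fun b : {b : G // b ∈ (S : Subgroup G) ∧ b ≠ 1} => oC (b : G))
        ⟨_, hgt, CfsgLib.Signalizer.involution_ne_one ((CfsgLib.Signalizer.orderOf_conj g t).trans ht)⟩
    have hcore : Cfsg.pCore 2 G = ⊥ := by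
      haveI := CfsgLib.Core.normal_pCore 2 G
      refine (IsSimpleGroup.eq_bot_or_eq_top_of_normal _ inferInstance).resolve_right fun e => ?_
      have hG2 : IsPGroup 2 G := by
        have := CfsgLib.Core.isPGroup_pCore 2 G
        rw [e] at this
        exact this.of_equiv Subgroup.topEquiv
      exact not_twoGroup H.simple.2.1 hG2
    obtain ⟨M, hM, hmax⟩ := (Set.toFinite {M : Subgroup G | Cfsg.IsTwoLocal M}).exists_maximal
      ⟨_, S, S.2, S.ne_bot_of_dvd_card H.even, rfl⟩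
    exact ⟨M, CfsgLib.LocalEven.SFourEmbedded.main (even_iff_two_dvd.2 H.even) hcore
      (fun N hN => H.charTwo hcores hN) M ⟨hM, fun N hN hle => le_antisymm (hmax hN hle) hle⟩⟩
  refine ⟨normalizer (W : Set G), ?_⟩
  set M := normalizer (W : Set G) with hMdef
  have hMtop : M ≠ ⊤ := by
    intro e
    haveI : W.Normal := normalizer_eq_top_iff.1 e
    rcases IsSimpleGroup.eq_bot_or_eq_top_of_normal W inferInstance with e' | e'
    · exact hWbot e'
    · rw [e', card_top] at hWodd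
      exact Nat.not_even_iff_odd.2 hWodd (even_iff_two_dvd.2 H.even)
  have hSM : (S : Subgroup G) ≤ M := le_normalizer.trans hNS
  have hNA : normalizer (A : Set G) ≤ M :=
    (hW A hA.le (not_rankLE_one hA.elem le_rfl (by have := hA.card; omega))).2
  -- centralisers of elements of `A`
  have hcA : ∀ b ∈ A, b ≠ 1 → centralizer ({b} : Set G) ≤ M := by
    intro b hb hb1
    have hb2 : orderOf b = 2 := orderOf_eq_prime (hA.elem.2 b hb) hb1
    obtain ⟨g, hext, -⟩ := exists_ext S hb2 (R := ⊥) IsPGroup.of_bot bot_le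
    obtain ⟨n, hn, he⟩ := hA.fuse g b hb (hA.closed g b hb hext.1)
    intro x hx
    have h1 : n * x * n⁻¹ ∈ M := H.centralizer_le hA hW ((CfsgLib.Signalizer.orderOf_conj g b).trans hb2) hext (by
      rw [← he]
      refine CfsgLib.Classical.TwoType.conj_centralizer.2 ?_
      simpa [mul_assoc] using hx)
    simpa [mul_assoc] using mul_mem (mul_mem (inv_mem (hNA hn)) h1) (hNA hn)
  -- an element moving a 2-subgroup meeting `A` into `S` lies in `M`
  have hL : ∀ (R : Subgroup G) (b : G), b ∈ A → b ≠ 1 → b ∈ R → ∀ g : G,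
      (∀ x ∈ R, g * x * g⁻¹ ∈ (S : Subgroup G)) → g ∈ M := by
    intro R b hb hb1 hbR g hg
    obtain ⟨n, hn, he⟩ := hA.fuse g b hb (hA.closed g b hb (hg b hbR))
    have h1 : n⁻¹ * g ∈ M := hcA b hb hb1 (mem_centralizer_singleton_iff.2 (by
      calc n⁻¹ * g * b = n⁻¹ * (g * b * g⁻¹) * g := by group
        _ = n⁻¹ * (n * b * n⁻¹) * g := by rw [he]
        _ = _ := by group))
    simpa using mul_mem (hNA hn) h1
  have hred : ∀ u ∈ (S : Subgroup G), orderOf u = 2 → ∃ m ∈ M, Ext S (m * u * m⁻¹) := by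
    intro u hu hu2
    obtain ⟨g, hext, hg⟩ := exists_ext S hu2 (R := (S : Subgroup G) ⊓ centralizer ({u} : Set G))
      (S.2.to_le inf_le_left) inf_le_right
    obtain ⟨-, b, hb, hb1, hbu⟩ := hA.exists_fixed hu hu2
    exact ⟨g, hL ((S : Subgroup G) ⊓ centralizer ({u} : Set G)) b hb hb1
      (mem_inf.2 ⟨hA.le hb, mem_centralizer_singleton_iff.2 hbu⟩) g hg, hext⟩
  refine (CfsgLib.Signalizer.stronglyEmbedded_iff_conj M).2 ⟨hMtop, ?_, fun u hu hu2 g hgu => ?_⟩
  · exact even_iff_two_dvd.2 ((S.dvd_card_of_dvd_card H.even).trans (card_dvd_of_le hSM))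
  obtain ⟨m₁, hm₁, hu1⟩ := exists_conj_into hSM hu hu2
  obtain ⟨m₂, hm₂, hv1⟩ := exists_conj_into hSM hgu ((CfsgLib.Signalizer.orderOf_conj g u).trans hu2)
  obtain ⟨h₁, hh₁, ht⟩ := hred _ hu1 ((CfsgLib.Signalizer.orderOf_conj _ _).trans hu2)
  obtain ⟨h₂, hh₂, ht'⟩ := hred _ hv1
    ((CfsgLib.Signalizer.orderOf_conj _ _).trans ((CfsgLib.Signalizer.orderOf_conj _ _).trans hu2))
  set t := h₁ * (m₁ * u * m₁⁻¹) * h₁⁻¹ with htdef
  set t' := h₂ * (m₂ * (g * u * g⁻¹) * m₂⁻¹) * h₂⁻¹ with htdef'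
  set k := h₂ * m₂ * g * m₁⁻¹ * h₁⁻¹ with hkdef
  have hk : k * t * k⁻¹ = t' := by rw [hkdef, htdef, htdef']; group
  have ht2 : orderOf t = 2 := by rw [htdef, CfsgLib.Signalizer.orderOf_conj, CfsgLib.Signalizer.orderOf_conj, hu2]
  have ht2' : orderOf t' = 2 := by rw [← hk, CfsgLib.Signalizer.orderOf_conj, ht2]
  set C' := centralizer ({t'} : Set G) with hC'
  obtain ⟨P', hP'⟩ : ∃ P : Sylow 2 C', (P : Subgroup C') = ((S : Subgroup G) ⊓ C').subgroupOf C' := by
    refine ⟨Sylow.ofCard (((S : Subgroup G) ⊓ C').subgroupOf C') ?_, Sylow.coe_ofCard _ _⟩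
    rw [Nat.card_congr (subgroupOfEquivOfLe inf_le_right).toEquiv, ht'.2]
  set R' := ((S : Subgroup G) ⊓ centralizer ({t} : Set G)).map (MulAut.conj k).toMonoidHom with hR'
  have hR'C : R' ≤ C' := by
    rintro _ ⟨x, hx, rfl⟩
    rw [hC', ← hk]
    refine CfsgLib.Classical.TwoType.conj_centralizer.2 ?_
    simpa [mul_assoc] using hx.2
  obtain ⟨P, hP⟩ := (((S.2.to_le inf_le_left).map _ : IsPGroup 2 R').comap_subtype (K := C')).exists_le_sylow
  obtain ⟨c, hc⟩ := MulAction.exists_smul_eq C' P P'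
  have hck : (c : G) * k ∈ M := by
    obtain ⟨-, b, hb, hb1, hbt⟩ := hA.exists_fixed ht.1 ht2
    refine hL ((S : Subgroup G) ⊓ centralizer ({t} : Set G)) b hb hb1
      (mem_inf.2 ⟨hA.le hb, mem_centralizer_singleton_iff.2 hbt⟩) _ fun x hx => ?_
    have hxR : k * x * k⁻¹ ∈ R' := ⟨x, hx, rfl⟩
    have h1 : c * ⟨k * x * k⁻¹, hR'C hxR⟩ * c⁻¹ ∈ (P' : Subgroup C') := by
      rw [← hc, Sylow.coe_subgroup_smul]
      exact ⟨_, hP hxR, rfl⟩
    rw [hP'] at h1
    have h2 := (mem_subgroupOf.1 h1).1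
    simp only [MulEquiv.coe_toMonoidHom, MulAut.conj_apply, Subgroup.coe_mul, InvMemClass.coe_inv, mul_inv_rev, mul_assoc, SetLike.mem_coe] at h2 ⊢
    exact h2
  have hcM : (c : G) ∈ M := H.centralizer_le hA hW ht2' ht' c.2
  have hkM : k ∈ M := (mul_mem_cancel_left hcM).1 hck
  have := mul_mem (mul_mem (mul_mem (inv_mem hm₂) (inv_mem hh₂)) hkM) (mul_mem hh₁ hm₁)
  simpa [hkdef, mul_assoc] using this

end CfsgLib.Techniques.PPrimeNilp
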