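import Cfsg.Agent.Lib.Techniques.PPrimeNilp.Embedded
import Cfsg.Agent.Lib.Techniques.PPrimeNilp.Count

/-!
Owner: helper28. Every group in which all subgroups of order prime to `p > 3` are nilpotent is solvable.
-/

set_option autoImplicit false
set_option linter.all false

namespace CfsgLib.Techniques.PPrimeNilp

open Subgroup

universe u

theorem solvable_of_hyp (p : ℕ) [Fact p.Prime] (hp3 : 3 < p) :
    ∀ (n : ℕ) (G : Type u) [Group G] [Finite G], Nat.card G = n → Hyp p G → Group.IsSolvable G := by
  intro n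
  induction n using Nat.strong_induction_on with
  | _ n ih =>
  intro G _ _ hn h
  have hsub : ∀ L : Subgroup G, L ≠ ⊤ → Group.IsSolvable L := fun L hL =>
    ih _ (hn ▸ CfsgLib.Core.card_subgroup_lt L hL) L rfl (h.subgroup L)
  by_cases hnormal : ∃ N : Subgroup G, N.Normal ∧ N ≠ ⊥ ∧ N ≠ ⊤
  · obtain ⟨N, hN, hNb, hNt⟩ := hnormal
    haveI := hsub N hNt
    haveI : Group.IsSolvable (G ⧸ N) := ih _ (by
      rw [← hn, N.card_eq_card_quotient_mul_card_subgroup]
      exact lt_mul_of_one_lt_right Nat.card_pos ((one_lt_card_iff_ne_bot N).mpr hNb)) _ rfl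
      (h.map _ (QuotientGroup.mk'_surjective N))
    exact Group.isSolvable_of_ker_le_range N.subtype (QuotientGroup.mk' N)
      (by rw [QuotientGroup.ker_mk', N.range_subtype])
  push Not at hnormal
  by_cases hc : IsMulCommutative G
  · haveI := hc
    letI : CommGroup G := { (inferInstance : Group G) with mul_comm := mul_comm' }
    infer_instance
  rcases Nat.even_or_odd (Nat.card G) with he | ho
  · exfalso
    haveI : Nontrivial G := by
      rcases subsingleton_or_nontrivial G with h1 | h1
      · exact absurd ⟨⟨fun a b => Subsingleton.elim _ _⟩⟩ hc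
      · exact h1
    haveI hs : IsSimpleGroup G := ⟨fun N hN => or_iff_not_imp_left.2 fun hb => hnormal N hN hb⟩
    obtain ⟨M, hM⟩ := (⟨⟨hs, hc, hsub⟩, h, hp3, even_iff_two_dvd.1 he⟩ : Min p G).exists_stronglyEmbedded
    exact false_of_stronglyEmbedded hc h hp3 hsub hM
  · exact Cfsg.Agent.S0205.result ho

end CfsgLib.Techniques.PPrimeNilp
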