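import Cfsg.Agent.Lib.Techniques.PPrimeNilp.Basic
import Cfsg.Agent.Lib.Techniques.PPrimeAbelian.Basic
import Cfsg.Agent.Lib.ZStar.Main
import Cfsg.Agent.Lib.Signalizer.Embedded
import Cfsg.Agent.Lib.PLocal.PConstrained
import Cfsg.Agent.S2796
import Cfsg.Agent.Lib.LocalEven.SFourFreeEmbedded

/-!
Owner: helper28. A minimal simple group without `S₄` sections has an elementary abelian strongly closed
2-subgroup; with the hypothesis on `p'`-subgroups it has order at least 8.
-/

set_option autoImplicit false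
set_option linter.all false

namespace CfsgLib.Techniques.PPrimeNilp

open Subgroup

universe u

/-- A solvable group is a composition `K`-group for every `K`. -/
theorem compositionK_of_solvable {X : Type u} [Group X] [Finite X] (hX : Group.IsSolvable X)
    (K : ∀ (Y : Type u) [Group Y], Prop) : Cfsg.IsCompositionKGroupWith K X := by
  intro H _ N _ hs hna
  haveI := hX
  haveI := hs
  exact absurd ⟨⟨fun a b => (IsSimpleGroup.comm_iff_isSolvable.2 inferInstance a b)⟩⟩ hna

variable {G : Type u} [Group G] [Finite G]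

theorem center_eq_bot [IsSimpleGroup G] (hna : ¬ IsMulCommutative G) : center G = ⊥ :=
  (IsSimpleGroup.eq_bot_or_eq_top_of_normal (center G) inferInstance).resolve_right fun e =>
    hna ⟨⟨fun a b => mem_center_iff.1 (e ▸ mem_top b) a⟩⟩

theorem centralizer_ne_top [IsSimpleGroup G] (hna : ¬ IsMulCommutative G) {x : G} (hx : x ≠ 1) :
    centralizer ({x} : Set G) ≠ ⊤ := by
  intro h
  have : x ∈ center G := mem_center_iff.2 fun g => mem_centralizer_singleton_iff.1 (h ▸ mem_top g)
  rw [center_eq_bot hna, mem_bot] at this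
  exact hx this

theorem not_twoGroup [IsSimpleGroup G] (hna : ¬ IsMulCommutative G) (hG : IsPGroup 2 G) : False := by
  haveI : Fact (Nat.Prime 2) := ⟨Nat.prime_two⟩
  haveI := hG.center_nontrivial
  obtain ⟨⟨c, hc⟩, hc1⟩ := exists_ne (1 : center G)
  exact hc1 (Subtype.ext (mem_bot.1 (center_eq_bot hna ▸ hc)))

/-- The standing hypotheses. -/
structure Min (p : ℕ) (G : Type u) [Group G] : Prop where
  simple : Cfsg.IsMinimalSimple G
  hyp : Hyp p G
  three : 3 < p
  even : 2 ∣ Nat.card G

/-- A strongly closed elementary abelian subgroup of order at least `8`. -/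
structure Closed (S : Sylow 2 G) (A : Subgroup G) : Prop where
  le : A ≤ (S : Subgroup G)
  elem : Cfsg.IsElementaryAbelian 2 A
  closed : ∀ g : G, ∀ x ∈ A, g * x * g⁻¹ ∈ (S : Subgroup G) → g * x * g⁻¹ ∈ A
  norm : (S : Subgroup G) ≤ normalizer (A : Set G)
  fuse : ∀ g : G, ∀ x ∈ A, g * x * g⁻¹ ∈ A → ∃ n ∈ normalizer (A : Set G), n * x * n⁻¹ = g * x * g⁻¹
  card : 8 ≤ Nat.card A

variable {p : ℕ} [Fact p.Prime] (H : Min p G)
include H

theorem Min.solvable {X : Subgroup G} (hX : X ≠ ⊤) : Group.IsSolvable X := H.simple.2.2 X hX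

theorem Min.simpleInst : IsSimpleGroup G := H.simple.1

theorem Min.local_hyp (S : Sylow 2 G) :
    ∃ A : Subgroup G, A ≤ (S : Subgroup G) ∧ Cfsg.IsElementaryAbelian 2 A ∧ Cfsg.IsStronglyClosed A (S : Subgroup G) ∧
      Cfsg.ControlsStrongFusion 2 A ∧ (S : Subgroup G) ≤ normalizer (A : Set G) ∧
      ∃ z ∈ A, orderOf z = 2 ∧ ∀ s ∈ (S : Subgroup G), s * z = z * s := by
  haveI := H.simple.1
  haveI : Fact (Nat.Prime 2) := ⟨Nat.prime_two⟩
  have hfree := H.hyp.s4_free H.three
  set N := normalizer (Cfsg.thompsonSubgroupOf 2 (S : Subgroup G) : Set G) with hN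
  obtain ⟨hAS, hAe, hAc, hAf⟩ := Cfsg.Agent.S2796.result hfree (fun K R hR hcen => by
    by_cases hK : K = ⊤
    · subst hK
      haveI : R.Normal := ⟨fun r hr g => by
        have := hR.conj_mem ⟨r, mem_top r⟩ hr ⟨g, mem_top g⟩
        exact this⟩
      rcases IsSimpleGroup.eq_bot_or_eq_top_of_normal R inferInstance with e | e
      · subst e
        exfalso
        let e' : (↥(⊤ : Subgroup G) ⧸ (⊥ : Subgroup G).subgroupOf ⊤) ≃* G :=
          ((QuotientGroup.quotientMulEquivOfEq (by rw [bot_subgroupOf])).trans QuotientGroup.quotientBot).trans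
            Subgroup.topEquiv
        have h2 := CfsgLib.PLocal.centralizer_pCore_le_congr e' hcen
        haveI := CfsgLib.Core.normal_pCore 2 G
        rcases IsSimpleGroup.eq_bot_or_eq_top_of_normal (Cfsg.pCore 2 G) inferInstance with e1 | e1
        · rw [e1] at h2
          obtain ⟨a, ha⟩ := exists_ne (1 : G)
          refine ha (mem_bot.1 (h2 (mem_centralizer_iff.2 fun v hv => ?_)))
          rw [SetLike.mem_coe, mem_bot] at hv
          simp [hv]
        · have hG2 : IsPGroup 2 G := by
            have := CfsgLib.Core.isPGroup_pCore 2 G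
            rw [e1] at this
            exact this.of_equiv Subgroup.topEquiv
          exact not_twoGroup H.simple.2.1 hG2
      · subst e
        haveI : Subsingleton (↥(⊤ : Subgroup G) ⧸ (⊤ : Subgroup G).subgroupOf ⊤) := by
          rw [subgroupOf_self]; exact QuotientGroup.subsingleton_quotient_top
        exact compositionK_of_solvable inferInstance _
    · haveI := H.solvable hK
      exact compositionK_of_solvable (inferInstance) _) S N hN _ rfl
  refine ⟨_, hAS, hAe, hAc, hAf, ?_, ?_⟩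
  · have hSN : (S : Subgroup G) ≤ N :=
      le_normalizer.trans (CfsgLib.LocalEven.Factor.normalizer_je _)
    refine hSN.trans (le_normalizer_iff.2 fun n hn x hx => ?_)
    obtain ⟨v, hv, rfl⟩ := hx
    exact ⟨⟨n, hn⟩ * v * ⟨n, hn⟩⁻¹, normalClosure_normal.conj_mem v hv _, rfl⟩
  · have hne : (S : Subgroup G) ⊓ centralizer ((S : Subgroup G) : Set G) ≠ ⊥ := by
      haveI : Nontrivial (S : Subgroup G) := (nontrivial_iff_ne_bot _).2 (S.ne_bot_of_dvd_card H.even)
      haveI := S.2.center_nontrivial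
      obtain ⟨⟨⟨c, hcR⟩, hcc⟩, hc1⟩ := exists_ne (1 : center (S : Subgroup G))
      intro hbot
      refine hc1 (Subtype.ext (Subtype.ext (mem_bot.1 (hbot ▸ mem_inf.2 ⟨hcR, mem_centralizer_iff.2 fun r hr => ?_⟩))))
      exact congrArg Subtype.val (mem_center_iff.1 hcc ⟨r, hr⟩)
    obtain ⟨z, hz, hz2⟩ := CfsgLib.Signalizer.exists_involution_of_two_group (S.2.to_le inf_le_left) hne
    have hSN : (S : Subgroup G) ≤ N :=
      le_normalizer.trans (CfsgLib.LocalEven.Factor.normalizer_je _)
    refine ⟨z, ⟨⟨z, hSN hz.1⟩, le_normalClosure ?_, rfl⟩, hz2, fun s hs => mem_centralizer_iff.1 hz.2 s hs⟩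
    exact CfsgLib.PGroups.mem_omegaOne hz (by have := pow_orderOf_eq_one z; rwa [hz2] at this)

theorem Min.exists_closed : ∃ (S : Sylow 2 G) (A : Subgroup G), Closed S A := by
  haveI := H.simple.1
  haveI : Fact (Nat.Prime 2) := ⟨Nat.prime_two⟩
  obtain ⟨S⟩ : Nonempty (Sylow 2 G) := inferInstance
  obtain ⟨A, hAS, hAe, ⟨-, hAc⟩, ⟨T, hAT, hAf⟩, hSA, z, hzA, hz2, hzS⟩ := H.local_hyp S
  have hfuse : ∀ g : G, ∀ x ∈ A, g * x * g⁻¹ ∈ A → ∃ n ∈ normalizer (A : Set G), n * x * n⁻¹ = g * x * g⁻¹ := by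
    intro g x hx hgx
    obtain ⟨-, h⟩ := hAf {x} (Set.singleton_subset_iff.2 (hAT hx))
    obtain ⟨n, hn, he⟩ := h g (by
      rintro _ ⟨a, ha, rfl⟩
      rw [Set.mem_singleton_iff] at ha
      subst ha
      exact hAT hgx)
    exact ⟨n, hn, (he x rfl).symm⟩
  refine ⟨S, A, hAS, hAe, fun g x hx hg => hAc x hx g hg, hSA, hfuse, ?_⟩
  -- some element of odd order moves `A`
  obtain ⟨x, hxN, hxo, a, haA, hxa⟩ : ∃ x ∈ normalizer (A : Set G), Odd (orderOf x) ∧ ∃ a ∈ A, x * a * x⁻¹ ≠ a := by
    by_contra hno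
    push Not at hno
    set N := normalizer (A : Set G) with hN
    set C := (centralizer (A : Set G)).subgroupOf N with hC
    haveI : C.Normal := by
      refine normal_subgroupOf_of_le_normalizer (le_normalizer_iff.2 fun g hg c hc => ?_)
      exact CfsgLib.LocalEven.Factor.conj_mem_centralizer hg hc
    have hq : IsPGroup 2 (N ⧸ C) := by
      intro q
      obtain ⟨n, rfl⟩ := QuotientGroup.mk_surjective q
      refine ⟨(orderOf (n : G)).factorization 2, ?_⟩
      rw [← QuotientGroup.mk_pow, QuotientGroup.eq_one_iff, hC, mem_subgroupOf, SubgroupClass.coe_pow,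
        mem_centralizer_iff]
      intro b hb
      refine (mul_inv_eq_iff_eq_mul.1 (hno _ (pow_mem n.2 _) ?_ b hb)).symm
      rw [orderOf_pow_of_dvd (pow_ne_zero _ two_ne_zero) (Nat.ordProj_dvd _ 2)]
      exact Nat.not_even_iff_odd.1 fun he =>
        Nat.not_dvd_ordCompl Nat.prime_two (orderOf_pos _).ne' (even_iff_two_dvd.1 he)
    set Cz := (centralizer ({z} : Set G)).subgroupOf N with hCz
    have hone : Cz.index = 1 := by
      have h1 : Cz.index ∣ C.index := index_dvd_of_le (by
        intro n hn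
        exact mem_centralizer_singleton_iff.2 (mem_centralizer_iff.1 hn z hzA).symm)
      have h2 : Cz.index ∣ ((S : Subgroup G).subgroupOf N).index := index_dvd_of_le (by
        intro n hn
        exact mem_centralizer_singleton_iff.2 (hzS _ hn))
      obtain ⟨k, hk⟩ := hq.exists_card_eq
      rw [← index_eq_card] at hk
      rw [hk] at h1
      obtain ⟨i, -, hi⟩ := (Nat.dvd_prime_pow Nat.prime_two).1 h1
      rcases Nat.eq_zero_or_pos i with e | e
      · rw [hi, e, pow_zero]
      · exfalso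
        refine CfsgLib.LocalEven.SFourEmbedded.relIndex_odd S hSA ?_
        exact ((dvd_pow_self 2 e.ne').trans hi.symm.dvd).trans h2
    have hiso : ∀ g : G, g * z * g⁻¹ ∈ (S : Subgroup G) → g * z * g⁻¹ = z := by
      intro g hg
      obtain ⟨n, hn, he⟩ := hfuse g z hzA (hAc z hzA g hg)
      rw [← he]
      have : (⟨n, hn⟩ : N) ∈ Cz := (index_eq_one.1 hone).ge (mem_top _)
      exact mul_inv_eq_iff_eq_mul.2 (mem_centralizer_singleton_iff.1 this)
    refine centralizer_ne_top H.simple.2.1 (CfsgLib.Signalizer.involution_ne_one hz2) (eq_top_iff.2 fun g _ => ?_)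
    have h1 := CfsgLib.ZStar.mem_oddCore_of_sylow S hz2 (hAS hzA) hiso g
    have hO : Cfsg.oddCore G = ⊥ := by
      haveI : (Cfsg.oddCore G).Normal := CfsgLib.Core.normal_pPrimeCore 2 G
      refine (IsSimpleGroup.eq_bot_or_eq_top_of_normal _ inferInstance).resolve_right fun e => ?_
      have h2 := CfsgLib.ZStar.odd_card_oddCore G
      rw [e, card_top] at h2
      exact Nat.not_even_iff_odd.2 h2 (even_iff_two_dvd.2 H.even)
    rw [hO, mem_bot, mul_inv_eq_one, mul_inv_eq_iff_eq_mul] at h1
    exact mem_centralizer_singleton_iff.2 h1.symm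
  -- its `p`-part moves `A`
  have hp : p.Prime := Fact.out
  set v := (orderOf x).factorization p with hv
  set m := orderOf x / p ^ v with hm
  have hmv : p ^ v * m = orderOf x := Nat.ordProj_mul_ordCompl_eq_self _ p
  have hmc : (orderOf (x ^ p ^ v)).Coprime p := by
    rw [hv, orderOf_pow_of_dvd (pow_ne_zero _ hp.ne_zero) (Nat.ordProj_dvd _ p), Nat.coprime_comm,
      hp.coprime_iff_not_dvd]
    exact Nat.not_dvd_ordCompl hp (orderOf_pos _).ne'
  have hA2 : (Nat.card A).Coprime p := by
    obtain ⟨k, hk⟩ := (S.2.to_le hAS).exists_card_eq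
    rw [hk]
    exact ((Nat.coprime_primes Nat.prime_two hp).2 (by have := H.three; omega)).pow_left _
  have hfixp : x ^ p ^ v ∈ centralizer (A : Set G) := mem_centralizer_iff.2 fun b hb => by
    refine (H.hyp.commute_of_normalizes hA2 hmc (pow_mem hxN _) hb ?_).symm
    exact Nat.Coprime.coprime_dvd_right (orderOf_dvd_of_pow_eq_one (hAe.2 b hb))
      (Nat.coprime_two_right.2 (hxo.of_dvd_nat (orderOf_pow_dvd _)))
  refine CfsgLib.Techniques.PPrimeAbelian.card_ge_of_moved (p := p) (r := 2) (by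
      have := H.three
      have : p ≠ 4 := fun e => by rw [e] at hp; norm_num at hp
      omega)
    (E := A) (S.2.to_le hAS) (g := x ^ m) (pow_mem hxN _) (j := v)
    (by rw [← pow_mul, mul_comm, hmv, pow_orderOf_eq_one]) fun hall => hxa ?_
  have hfixm : x ^ m ∈ centralizer (A : Set G) :=
    mem_centralizer_iff.2 fun b hb => (mul_inv_eq_iff_eq_mul.1 (hall b hb)).symm
  have hcop : Nat.gcd (p ^ v) m = 1 := Nat.Coprime.pow_left v (Nat.coprime_ordCompl hp (orderOf_pos x).ne')
  have hx1 : x ∈ centralizer (A : Set G) := by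
    have := mul_mem (zpow_mem hfixp ((p ^ v).gcdA m)) (zpow_mem hfixm ((p ^ v).gcdB m))
    rwa [← zpow_natCast, ← zpow_natCast, ← zpow_mul, ← zpow_mul, ← zpow_add, ← Nat.gcd_eq_gcd_ab, hcop,
      Nat.cast_one, zpow_one] at this
  exact mul_inv_eq_iff_eq_mul.2 (mem_centralizer_iff.1 hx1 a haA).symm

end CfsgLib.Techniques.PPrimeNilp
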